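import Groth.Agent.Lib.RamSam.ModuleTriv
import Groth.Agent.Lib.GenCover.TildePull
import Groth.Prelude.Def_Formal2

/-!
# Pullback of invertible modules along closed immersions into a punctured spectrum
-/

set_option autoImplicit false
set_option linter.style.haveILetI false
set_option backward.isDefEq.respectTransparency false

universe u

open CategoryTheory AlgebraicGeometry TopologicalSpace Opposite
open scoped TensorProduct

namespace GrothLib.RamSam

/-- The pullback of the structure module. -/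
noncomputable def pullUnitIso {X Y : Scheme.{u}} (f : X ⟶ Y) :
    (Scheme.Modules.pullback f).obj (Coh.structureModule Y) ≅ Coh.structureModule X :=
  haveI : (SheafOfModules.pushforward.{u} f.toRingCatSheafHom).IsRightAdjoint :=
    (Scheme.Modules.pullbackPushforwardAdjunction f).isRightAdjoint
  @asIso _ _ _ _ (SheafOfModules.pullbackObjUnitToUnit f.toRingCatSheafHom)
    (SheafOfModules.instIsIsoPullbackObjUnitToUnitOfFinal (F := Opens.map f.base) f.toRingCatSheafHom)

variable {S : Type u} [CommRing S] [IsLocalRing S] [IsNoetherianRing S]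

/-- A functional from a finite module to `S ⧸ J` trivial off the closed point, from a trivialisation of the pullback. -/
theorem exists_isTrivPunct_of_pullback (J : Ideal S) [IsLocalRing (S ⧸ J)]
    (hd : (2 : ℕ∞) ≤ LocCoh.depth (S ⧸ J) (S ⧸ J))
    (g : (FEt.puncturedSpec (S ⧸ J) : Scheme.{u}) ⟶ (FEt.puncturedSpec S : Scheme.{u}))
    (hg : g ≫ (FEt.puncturedSpec S).ι =
      (FEt.puncturedSpec (S ⧸ J)).ι ≫ Spec.map (CommRingCat.ofHom (Ideal.Quotient.mk J)))
    (M : Type u) [AddCommGroup M] [Module S M] [Module.Finite S M] (hM : GenPunct S M)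
    (h : Nonempty ((Scheme.Modules.pullback g).obj ((Scheme.Modules.restrictFunctor (FEt.puncturedSpec S).ι).obj
      (tilde (R := CommRingCat.of S) (ModuleCat.of (CommRingCat.of S) M))) ≅ Coh.structureModule _)) :
    ∃ ψ₀ : (M ⧸ J • (⊤ : Submodule S M)) →ₗ[S ⧸ J] S ⧸ J, IsTrivPunct (S ⧸ J) ψ₀ := by
  obtain ⟨Θ⟩ := h
  let U := FEt.puncturedSpec S
  let U₀ := FEt.puncturedSpec (S ⧸ J)
  let φ : CommRingCat.of S ⟶ CommRingCat.of (S ⧸ J) := CommRingCat.ofHom (Ideal.Quotient.mk J)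
  let N : ModuleCat.{u} (CommRingCat.of S) := ModuleCat.of (CommRingCat.of S) M
  let e₁ : ((S ⧸ J) ⊗[S] M) ≃ₗ[S ⧸ J] M ⧸ J • (⊤ : Submodule S M) :=
    (TensorProduct.quotTensorEquivQuotSMul M J).extendScalarsOfSurjective Ideal.Quotient.mk_surjective
  let e₂ : (ModuleCat.extendScalars φ.hom).obj N ≅
      ModuleCat.of (CommRingCat.of (S ⧸ J)) (M ⧸ J • (⊤ : Submodule S M)) := LinearEquiv.toModuleIso e₁
  refine exists_isTrivPunct_of_iso hd _ (genPunct_quotient J hM) ?_
  exact (Scheme.Modules.restrictFunctor U₀.ι).mapIso ((tilde.functor _).mapIso e₂.symm) ≪≫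
    (Scheme.Modules.restrictFunctorIsoPullback U₀.ι).app _ ≪≫
    (Scheme.Modules.pullback U₀.ι).mapIso ((GenCover.pullTildeIso φ).app N).symm ≪≫
    (Scheme.Modules.pullbackComp U₀.ι (Spec.map φ)).app _ ≪≫
    (Scheme.Modules.pullbackCongr hg.symm).app _ ≪≫
    ((Scheme.Modules.pullbackComp g U.ι).app _).symm ≪≫
    (Scheme.Modules.pullback g).mapIso ((Scheme.Modules.restrictFunctorIsoPullback U.ι).app _).symm ≪≫ Θ

/-- The punctured spectrum of a quotient, into the closed subscheme it cuts out of the punctured spectrum. -/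
theorem exists_lift_punctured (J : Ideal S) [IsLocalRing (S ⧸ J)] :
    ∃ (g : (FEt.puncturedSpec (S ⧸ J) : Scheme.{u}) ⟶ (FEt.puncturedSpec S : Scheme.{u}))
      (k : (FEt.puncturedSpec (S ⧸ J) : Scheme.{u}) ⟶ (((Spec.map (CommRingCat.ofHom (Ideal.Quotient.mk J))).ker.comap
        (FEt.puncturedSpec S).ι)).subscheme),
      g ≫ (FEt.puncturedSpec S).ι =
        (FEt.puncturedSpec (S ⧸ J)).ι ≫ Spec.map (CommRingCat.ofHom (Ideal.Quotient.mk J)) ∧
      k ≫ (((Spec.map (CommRingCat.ofHom (Ideal.Quotient.mk J))).ker.comap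
        (FEt.puncturedSpec S).ι)).subschemeι = g := by
  let U := FEt.puncturedSpec S
  let U₀ := FEt.puncturedSpec (S ⧸ J)
  let q := Spec.map (CommRingCat.ofHom (Ideal.Quotient.mk J))
  have hr : Set.range (U₀.ι ≫ q) ⊆ Set.range U.ι := by
    rintro _ ⟨x, rfl⟩
    rw [Scheme.Opens.range_ι]
    intro hx
    refine comap_ne_maximal J (fun h => x.2 (PrimeSpectrum.ext h)) ?_
    exact congrArg PrimeSpectrum.asIdeal hx
  let g := IsOpenImmersion.lift U.ι (U₀.ι ≫ q) hr
  have hg : g ≫ U.ι = U₀.ι ≫ q := IsOpenImmersion.lift_fac _ _ _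
  have hle : (q.ker.comap U.ι).subschemeι.ker ≤ g.ker := by
    rw [Scheme.IdealSheafData.ker_subschemeι, ← Scheme.IdealSheafData.le_map_iff_comap_le,
      Scheme.IdealSheafData.map_ker, hg]
    exact Scheme.Hom.le_ker_comp U₀.ι q
  exact ⟨g, IsClosedImmersion.lift _ g hle, hg, IsClosedImmersion.lift_fac _ g hle⟩

/-- In depth two a functional trivialising a module off the closed point generates the dual. -/
theorem bijective_smul_of_isTrivPunct {R : Type u} [CommRing R] [IsLocalRing R] [IsNoetherianRing R]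
    (hd : (2 : ℕ∞) ≤ LocCoh.depth R R) {M : Type u} [AddCommGroup M] [Module R M] [Module.Finite R M]
    (ψ : M →ₗ[R] R) (hψ : IsTrivPunct R ψ) : Function.Bijective fun c : R => c • ψ := by
  have hvan := subsingleton_ext_of_killed R (n := 2) hd
  have hzero : ∀ c : R, (∀ P : Ideal R, P.IsPrime → P ≠ IsLocalRing.maximalIdeal R → ∃ t ∉ P, t * c = 0) → c = 0 := by
    intro c hc
    haveI := hvan (Ideal.span {c} : Ideal R) (fun P hP hne x => by
      obtain ⟨t, ht, htc⟩ := hc P hP hne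
      obtain ⟨d, hd'⟩ := Ideal.mem_span_singleton'.1 x.2
      exact ⟨t, ht, Subtype.ext (show t * x.1 = 0 by rw [← hd', mul_left_comm, htc, mul_zero])⟩) 0 (by norm_num)
    have h0 : ModuleCat.ofHom (Submodule.subtype (Ideal.span {c})) = 0 :=
      (CategoryTheory.Abelian.Ext.addEquiv₀ (X := ModuleCat.of R (Ideal.span {c} : Ideal R))
        (Y := ModuleCat.of R R)).subsingleton_congr.1 inferInstance |>.elim _ _
    exact congrArg (fun f => f.hom ⟨c, Ideal.mem_span_singleton_self c⟩) h0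
  refine ⟨fun a b hab => sub_eq_zero.1 (hzero _ fun P hP hne => ?_), fun F => ?_⟩
  · obtain ⟨m, s, hs, hm, hψm⟩ := hψ P hP hne
    refine ⟨ψ m, hψm, ?_⟩
    have := LinearMap.congr_fun hab m
    simp only [LinearMap.smul_apply, smul_eq_mul] at this
    linear_combination this
  · let I : Ideal R := LinearMap.range ψ
    have hker : LinearMap.ker ψ ≤ LinearMap.ker F := fun x hx => hzero _ fun P hP hne => by
      obtain ⟨m, s, hs, hm, hψm⟩ := hψ P hP hne
      obtain ⟨k, b, hb⟩ := hm.1 x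
      refine ⟨ψ m * s ^ k, fun h => (hP.mem_or_mem h).elim hψm fun h' => hs (hP.mem_of_pow_mem _ h'), ?_⟩
      have h1 : b * ψ m = 0 := by
        have := congrArg ψ hb
        rwa [map_smul, map_smul, LinearMap.mem_ker.1 hx, smul_zero, smul_eq_mul, eq_comm] at this
      have h2 := congrArg F hb
      simp only [map_smul, smul_eq_mul] at h2
      rw [mul_assoc, h2, ← mul_assoc, mul_comm (ψ m), h1, zero_mul]
    let F' : I →ₗ[R] R := ((LinearMap.ker ψ).liftQ F hker).comp ψ.quotKerEquivRange.symm.toLinearMap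
    have hsc := shortExact_mk I.subtype I.mkQ (Submodule.injective_subtype I) (Submodule.mkQ_surjective I)
      (LinearMap.exact_subtype_mkQ I)
    have hQ := hvan (R ⧸ I) (fun P hP hne x => by
      obtain ⟨m, _, _, _, hψm⟩ := hψ P hP hne
      obtain ⟨a, rfl⟩ := Submodule.Quotient.mk_surjective I x
      refine ⟨ψ m, hψm, ?_⟩
      rw [← Submodule.Quotient.mk_smul, Submodule.Quotient.mk_eq_zero]
      exact ⟨a • m, by rw [map_smul, smul_eq_mul, smul_eq_mul, mul_comm]⟩) 1 (by norm_num)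
    obtain ⟨x₂, hx₂⟩ := CategoryTheory.Abelian.Ext.contravariant_sequence_exact₁ hsc (ModuleCat.of R R)
      (CategoryTheory.Abelian.Ext.mk₀ (ModuleCat.ofHom F')) (n₁ := 1) rfl (@Subsingleton.elim _ hQ _ _)
    obtain ⟨e, rfl⟩ : ∃ e : ModuleCat.of R R ⟶ ModuleCat.of R R, CategoryTheory.Abelian.Ext.mk₀ e = x₂ :=
      ⟨CategoryTheory.Abelian.Ext.homEquiv₀ x₂, CategoryTheory.Abelian.Ext.mk₀_homEquiv₀_apply x₂⟩
    have h := (CategoryTheory.Abelian.Ext.mk₀_bijective _ _).1
      ((CategoryTheory.Abelian.Ext.mk₀_comp_mk₀ (ModuleCat.ofHom I.subtype) e).symm.trans hx₂)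
    refine ⟨e.hom 1, LinearMap.ext fun x => ?_⟩
    have h1 : e.hom (ψ x) = F' ⟨ψ x, x, rfl⟩ :=
      congrArg (fun f : ModuleCat.of R I ⟶ ModuleCat.of R R => f.hom ⟨ψ x, x, rfl⟩) h
    have h2 : F' ⟨ψ x, x, rfl⟩ = F x := by
      show (LinearMap.ker ψ).liftQ F hker (ψ.quotKerEquivRange.symm _) = _
      rw [LinearMap.quotKerEquivRange_symm_apply_image]
      rfl
    show e.hom 1 * ψ x = F x
    rw [← h2, ← h1]
    calc e.hom 1 * ψ x = ψ x • e.hom (1 : R) := mul_comm _ _
      _ = e.hom (ψ x • (1 : R)) := (map_smul e.hom (ψ x) (1 : R)).symm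
      _ = e.hom (ψ x) := congrArg e.hom (mul_one (ψ x))

/-- The dual of a module trivial off the closed point modulo `J` is trivial there modulo `J`. -/
theorem exists_isTrivPunct_dual (J : Ideal S) [IsLocalRing (S ⧸ J)]
    (hd : (2 : ℕ∞) ≤ LocCoh.depth (S ⧸ J) (S ⧸ J))
    (M : Type u) [AddCommGroup M] [Module S M] [Module.Finite S M] (hM : GenPunct S M)
    (ψ₀ : (M ⧸ J • (⊤ : Submodule S M)) →ₗ[S ⧸ J] S ⧸ J) (hψ₀ : IsTrivPunct (S ⧸ J) ψ₀) :
    ∃ g₀ : ((M →ₗ[S] S) ⧸ J • (⊤ : Submodule S (M →ₗ[S] S))) →ₗ[S ⧸ J] S ⧸ J,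
      IsTrivPunct (S ⧸ J) g₀ := by
  haveI : Module.Finite (S ⧸ J) (M ⧸ J • (⊤ : Submodule S M)) :=
    Module.Finite.of_restrictScalars_finite S (S ⧸ J) _
  let η := (LinearEquiv.ofBijective (LinearMap.toSpanSingleton (S ⧸ J) _ ψ₀)
    (bijective_smul_of_isTrivPunct hd ψ₀ hψ₀)).symm
  let red : (M →ₗ[S] S) →ₗ[S] ((M ⧸ J • (⊤ : Submodule S M)) →ₗ[S] S ⧸ J) :=
    { toFun := fun f => Submodule.mapQ _ J f (by
        refine Submodule.smul_le.2 fun r hr x _ => ?_
        show f (r • x) ∈ J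
        rw [map_smul]
        exact J.mul_mem_right _ hr)
      map_add' := fun f f' => Submodule.linearMap_qext _ (LinearMap.ext fun x => rfl)
      map_smul' := fun r f => Submodule.linearMap_qext _ (LinearMap.ext fun x => rfl) }
  let red' : ((M →ₗ[S] S) ⧸ J • (⊤ : Submodule S (M →ₗ[S] S))) →ₗ[S] ((M ⧸ J • (⊤ : Submodule S M)) →ₗ[S] S ⧸ J) :=
    Submodule.liftQ _ red (Submodule.smul_le.2 fun r hr f _ => by
      refine LinearMap.ext fun x => ?_
      rw [map_smul, LinearMap.smul_apply, LinearMap.zero_apply, Algebra.smul_def, Ideal.Quotient.algebraMap_eq,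
        Ideal.Quotient.eq_zero_iff_mem.2 hr, zero_mul])
  let R' : ((M →ₗ[S] S) ⧸ J • (⊤ : Submodule S (M →ₗ[S] S))) →ₗ[S ⧸ J]
      ((M ⧸ J • (⊤ : Submodule S M)) →ₗ[S ⧸ J] S ⧸ J) :=
    LinearMap.extendScalarsOfSurjective (Ideal.Quotient.mk_surjective (I := J))
      { toFun := fun F => (red' F).extendScalarsOfSurjective Ideal.Quotient.mk_surjective
        map_add' := fun F F' => LinearMap.ext fun x => LinearMap.congr_fun (map_add red' F F') x
        map_smul' := fun r F => LinearMap.ext fun x => LinearMap.congr_fun (map_smul red' r F) x }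
  refine ⟨η.toLinearMap.comp R', fun P hP hne => ?_⟩
  obtain ⟨m, s, hs, hm⟩ := hM (P.comap (Ideal.Quotient.mk J)) inferInstance (comap_ne_maximal J hne)
  obtain ⟨φ, k, hφm, hφ⟩ := exists_genAt_dual hm
  refine ⟨_, Ideal.Quotient.mk J s, hs, genAt_quotient J hφ, fun hmem => hs ?_⟩
  have h2 := LinearMap.congr_fun ((LinearEquiv.ofBijective (LinearMap.toSpanSingleton (S ⧸ J) _ ψ₀)
    (bijective_smul_of_isTrivPunct hd ψ₀ hψ₀)).apply_symm_apply (R' (Submodule.Quotient.mk φ)))
    (Submodule.Quotient.mk m)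
  have h3 : η (R' (Submodule.Quotient.mk φ)) * ψ₀ (Submodule.Quotient.mk m) = Ideal.Quotient.mk J (φ m) := h2
  refine hP.mem_of_pow_mem k ?_
  rw [← map_pow, ← hφm, ← h3]
  exact P.mul_mem_right _ hmem

/-- The two hypotheses of `moduleTriv_of_grFree` from a trivialisation of a pullback. -/
theorem exists_iso_of_grFree (J : Ideal S) [IsLocalRing (S ⧸ J)]
    (hd : (3 : ℕ∞) ≤ LocCoh.depth (S ⧸ J) (S ⧸ J))
    (hgr : ∀ n : ℕ, Module.Free (S ⧸ J) (↥(J ^ n) ⧸ (J • (⊤ : Submodule S ↥(J ^ n))))) :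
    Formal2.PicPullbackInjective ((((Spec.map (CommRingCat.ofHom (Ideal.Quotient.mk J))).ker.comap
      (FEt.puncturedSpec S).ι)).subschemeι) := by
  intro L hL ⟨Θ⟩
  haveI : IsNoetherianRing (CommRingCat.of S) := inferInstanceAs (IsNoetherianRing S)
  obtain ⟨g, k, hg, hk⟩ := exists_lift_punctured J
  refine picTrivial_of_iso S L hL fun M _ _ _ hM e => ?_
  have hd2 : (2 : ℕ∞) ≤ LocCoh.depth (S ⧸ J) (S ⧸ J) := le_trans (by norm_num) hd
  have hΘ : Nonempty ((Scheme.Modules.pullback g).obj ((Scheme.Modules.restrictFunctor (FEt.puncturedSpec S).ι).obj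
      (tilde (R := CommRingCat.of S) (ModuleCat.of (CommRingCat.of S) M))) ≅ Coh.structureModule _) :=
    ⟨(Scheme.Modules.pullback g).mapIso e ≪≫ (Scheme.Modules.pullbackCongr hk.symm).app _ ≪≫
      ((Scheme.Modules.pullbackComp k _).app _).symm ≪≫ (Scheme.Modules.pullback k).mapIso Θ ≪≫ pullUnitIso k⟩
  obtain ⟨ψ₀, hψ₀⟩ := exists_isTrivPunct_of_pullback J hd2 g hg M hM hΘ
  exact moduleTriv_of_grFree J hd hgr M hM ⟨ψ₀, hψ₀⟩ fun _ => exists_isTrivPunct_dual J hd2 M hM ψ₀ hψ₀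

end GrothLib.RamSam
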