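import Groth.Agent.Lib.RamSam.HeightOne
import Mathlib.RingTheory.Nakayama
import Mathlib.RingTheory.Ideal.GoingUp
import Mathlib.RingTheory.AdjoinRoot

/-!
# Invertible modules on the punctured spectrum of `A[[T]]`, `A` of depth two

The algebraic core: a finite module which is free of rank one at all primes other than the maximal
ideal maps to `A[[T]]` by a map which is bijective at all these primes.
-/

set_option autoImplicit false
set_option linter.style.haveILetI false

universe u

open IsLocalRing Polynomial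

namespace GrothLib.RamSam

/-- `m` generates `M` freely where `s` is invertible, elementwise. -/
def GenAt {B M : Type u} [CommRing B] [AddCommGroup M] [Module B M] (m : M) (s : B) : Prop :=
  (∀ x : M, ∃ (k : ℕ) (b : B), s ^ k • x = b • m) ∧ ∀ b : B, b • m = 0 → ∃ k : ℕ, s ^ k * b = 0

/-- A functional which is a power of `s` at a generator. -/
theorem exists_functional {B M : Type u} [CommRing B] [IsNoetherianRing B] [AddCommGroup M] [Module B M]
    [Module.Finite B M] {m : M} {s : B} (h : GenAt m s) :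
    ∃ (φ : M →ₗ[B] B) (k : ℕ), φ m = s ^ k := by
  classical
  obtain ⟨r, x, hx⟩ := Module.Finite.exists_fin (R := B) (M := M)
  choose k b hb using fun i => h.1 (x i)
  let K := Finset.univ.sup k
  have hK : ∀ y : M, ∃ c : B, s ^ K • y = c • m := by
    intro y
    have hy : y ∈ Submodule.span B (Set.range x) := hx ▸ Submodule.mem_top
    induction hy using Submodule.span_induction with
    | mem z hz =>
      obtain ⟨i, rfl⟩ := hz
      refine ⟨s ^ (K - k i) * b i, ?_⟩
      rw [mul_smul, ← hb, smul_smul, ← pow_add, Nat.sub_add_cancel (Finset.le_sup (Finset.mem_univ i))]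
    | zero => exact ⟨0, by simp⟩
    | add z w _ _ hz hw =>
      obtain ⟨c, hc⟩ := hz
      obtain ⟨d, hd⟩ := hw
      exact ⟨c + d, by rw [smul_add, hc, hd, add_smul]⟩
    | smul a z _ hz =>
      obtain ⟨c, hc⟩ := hz
      exact ⟨a * c, by rw [smul_comm, hc, smul_smul]⟩
  choose c hc using hK
  obtain ⟨q, z, hz⟩ := Submodule.fg_iff_exists_fin_generating_family.1
    (IsNoetherian.noetherian (LinearMap.ker (LinearMap.toSpanSingleton B M m)))
  have hzm : ∀ i, z i • m = 0 := fun i =>
    LinearMap.mem_ker.1 (hz ▸ Submodule.subset_span ⟨i, rfl⟩ : z i ∈ LinearMap.ker (LinearMap.toSpanSingleton B M m))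
  choose l hl using fun i => h.2 (z i) (hzm i)
  let L := Finset.univ.sup l
  have key : ∀ d e : B, d • m = e • m → s ^ L * d = s ^ L * e := fun d e hde => by
    rw [← sub_eq_zero, ← mul_sub]
    have hmem : d - e ∈ Submodule.span B (Set.range z) := by
      rw [hz, LinearMap.mem_ker, LinearMap.toSpanSingleton_apply, sub_smul, hde, sub_self]
    generalize d - e = q at hmem ⊢
    induction hmem using Submodule.span_induction with
    | mem w hw =>
      obtain ⟨i, rfl⟩ := hw
      rw [show L = L - l i + l i from (Nat.sub_add_cancel (Finset.le_sup (Finset.mem_univ i))).symm, pow_add,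
        mul_assoc, hl, mul_zero]
    | zero => simp
    | add v w _ _ hv hw => rw [mul_add, hv, hw, add_zero]
    | smul a v _ hv => rw [smul_eq_mul, mul_left_comm, hv, mul_zero]
  refine ⟨{ toFun := fun y => s ^ L * c y, map_add' := fun y y' => ?_, map_smul' := fun a y => ?_ }, L + K, ?_⟩
  · rw [← mul_add]
    refine key _ _ ?_
    rw [← hc, smul_add, hc, hc, add_smul]
  · rw [RingHom.id_apply, smul_eq_mul, mul_left_comm]
    refine key _ _ ?_
    rw [← hc, smul_comm, hc, smul_smul]
  · show s ^ L * c m = s ^ (L + K)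
    rw [pow_add]
    exact key _ _ (hc m).symm

/-- A monic generator of degree `r`, with no smaller elements, over a local ring. -/
theorem exists_monic_local {R : Type u} [CommRing R] [IsNoetherianRing R] [IsLocalRing R] (J : Ideal R[X])
    (P : R[X]) (hP : P.Monic) (hPJ : P ∈ J)
    (hmem : ∀ f ∈ J, (∀ i, f.coeff i ∈ maximalIdeal R) → f ∈ (maximalIdeal R).map C * J) :
    ∃ G ∈ J, G.Monic ∧ ∀ f ∈ J, f.degree < G.natDegree → f = 0 := by
  classical
  let π : R[X] →+* (ResidueField R)[X] := mapRingHom (residue R)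
  have hπ : Function.Surjective π := Polynomial.map_surjective _ residue_surjective
  obtain ⟨gb, hgb⟩ := (IsPrincipalIdealRing.principal (J.map π)).principal
  have hπP : π P ∈ J.map π := Ideal.mem_map_of_mem π hPJ
  have hgb0 : gb ≠ 0 := by
    rintro rfl
    rw [hgb, Submodule.span_zero_singleton, Submodule.mem_bot] at hπP
    exact (hP.map (residue R)).ne_zero hπP
  let g := normalize gb
  have hg : g.Monic := Polynomial.monic_normalize hgb0
  have hJ : J.map π = Ideal.span {g} := by
    rw [hgb]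
    exact Ideal.span_singleton_eq_span_singleton.2 (normalize_associated gb).symm
  let r := g.natDegree
  -- the quotient is spanned by `1, T, …, T^(r-1)`
  let Q := R[X] ⧸ J
  haveI : Module.Finite R Q := by
    haveI : Module.Finite R (R[X] ⧸ Ideal.span {P}) := hP.finite_adjoinRoot
    exact Module.Finite.of_surjective
      (Ideal.Quotient.factorₐ R ((Ideal.span_singleton_le_iff_mem J).2 hPJ)).toLinearMap
      (Ideal.Quotient.factor_surjective ((Ideal.span_singleton_le_iff_mem J).2 hPJ))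
  let N : Submodule R Q := (Polynomial.degreeLT R r).map (Ideal.Quotient.mkₐ R J).toLinearMap
  have hN : (⊤ : Submodule R Q) ≤ N ⊔ maximalIdeal R • ⊤ := by
    rintro y -
    obtain ⟨f, rfl⟩ := Ideal.Quotient.mk_surjective y
    obtain ⟨q, hq⟩ := hπ (π f /ₘ g)
    have hgJ : π q * g ∈ J.map π := Ideal.mul_mem_left _ _ (hJ ▸ Ideal.mem_span_singleton_self g)
    obtain ⟨j, hj, hjq⟩ := (Ideal.mem_map_iff_of_surjective π hπ).1 hgJ
    have hlifts : π f %ₘ g ∈ Polynomial.lifts (residue R) :=
      (Polynomial.lifts_iff_coeff_lifts _).2 fun i => residue_surjective _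
    obtain ⟨w, hw, hwdeg⟩ := Polynomial.mem_lifts_and_degree_eq hlifts
    have hwlt : w ∈ Polynomial.degreeLT R r := by
      rw [Polynomial.mem_degreeLT, hwdeg]
      exact (Polynomial.degree_modByMonic_lt _ hg).trans_eq (degree_eq_natDegree hg.ne_zero)
    have hrest : ∀ i, (f - j - w).coeff i ∈ maximalIdeal R := by
      intro i
      rw [← residue_eq_zero_iff, ← Polynomial.coeff_map]
      have : π (f - j - w) = 0 := by
        rw [map_sub, map_sub, hjq, hq, show π w = π f %ₘ g from hw, mul_comm (π f /ₘ g)]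
        have := Polynomial.modByMonic_add_div (π f) g
        linear_combination -this
      rw [show (f - j - w).map (residue R) = π (f - j - w) from rfl, this, coeff_zero]
    have heq : Ideal.Quotient.mk J f = Ideal.Quotient.mk J w + Ideal.Quotient.mk J (f - j - w) := by
      rw [← map_add, Ideal.Quotient.mk_eq_mk_iff_sub_mem]
      convert hj using 1
      ring
    rw [heq]
    refine Submodule.add_mem_sup ⟨w, hwlt, rfl⟩ ?_
    rw [(f - j - w).as_sum_range_C_mul_X_pow, map_sum]
    refine Submodule.sum_mem _ fun i _ => ?_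
    rw [← Polynomial.smul_eq_C_mul, show Ideal.Quotient.mk J ((f - j - w).coeff i • X ^ i) =
      (f - j - w).coeff i • Ideal.Quotient.mk J (X ^ i) from map_smul (Ideal.Quotient.mkₐ R J) _ _]
    exact Submodule.smul_mem_smul (hrest i) Submodule.mem_top
  have hNtop : (⊤ : Submodule R Q) ≤ N :=
    Submodule.le_of_le_smul_of_le_jacobson_bot Module.Finite.fg_top (maximalIdeal_le_jacobson _) hN
  obtain ⟨v, hv, hvX⟩ := hNtop (Submodule.mem_top (x := Ideal.Quotient.mk J (X ^ r)))
  have hvdeg : v.degree < r := Polynomial.mem_degreeLT.1 hv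
  let G := X ^ r - v
  have hG : G.Monic := Polynomial.monic_X_pow_sub hvdeg
  have hGd : G.natDegree = r := by
    refine natDegree_eq_of_degree_eq_some ?_
    rw [degree_sub_eq_left_of_degree_lt (by rwa [degree_X_pow]), degree_X_pow]
  have hGJ : G ∈ J := Ideal.Quotient.eq.1 (hvX.symm : Ideal.Quotient.mk J (X ^ r) = Ideal.Quotient.mk J v)
  refine ⟨G, hGJ, hG, fun f hf hfd => ?_⟩
  rw [hGd] at hfd
  let K : Submodule R R[X] := J.restrictScalars R ⊓ Polynomial.degreeLT R r
  have hKfg : K.FG := by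
    haveI : Module.Finite R (Polynomial.degreeLT R r) := Module.Finite.equiv (Polynomial.degreeLTEquiv R r).symm
    exact Submodule.FG.of_le (Module.Finite.iff_fg.1 ‹_›) inf_le_right
  have hmodJ : ∀ {z : R[X]}, z ∈ J → z %ₘ G ∈ K := fun {z} hz => by
    refine ⟨?_, Polynomial.mem_degreeLT.2 ?_⟩
    · show z %ₘ G ∈ J
      rw [Polynomial.modByMonic_eq_sub_mul_div]
      exact J.sub_mem hz (J.mul_mem_right _ hGJ)
    · exact (degree_modByMonic_lt z hG).trans_eq (by rw [degree_eq_natDegree hG.ne_zero, hGd])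
  have hle : K ≤ maximalIdeal R • K := by
    rintro z ⟨hzJ, hzd⟩
    have hzd' : z.degree < r := Polynomial.mem_degreeLT.1 hzd
    have hz0 : π z = 0 := by
      have hdvd : g ∣ π z := Ideal.mem_span_singleton.1 (hJ ▸ Ideal.mem_map_of_mem π hzJ)
      refine eq_zero_of_dvd_of_degree_lt hdvd ?_
      refine lt_of_le_of_lt (degree_map_le) (lt_of_lt_of_eq hzd' (degree_eq_natDegree hg.ne_zero).symm)
    have hzm := hmem z hzJ fun i => by
      rw [← residue_eq_zero_iff, ← Polynomial.coeff_map]
      exact congrArg (fun w => Polynomial.coeff w i) hz0 |>.trans (coeff_zero i)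
    have hlin : ∀ w ∈ (maximalIdeal R).map C * J, w %ₘ G ∈ maximalIdeal R • K := by
      intro w hw
      induction hw using Submodule.mul_induction_on' with
      | mem_mul_mem a ha b hb =>
        rw [a.as_sum_range_C_mul_X_pow, Finset.sum_mul]
        show Polynomial.modByMonicHom G _ ∈ _
        rw [map_sum]
        refine Submodule.sum_mem _ fun i _ => ?_
        rw [← Polynomial.smul_eq_C_mul, smul_mul_assoc, map_smul]
        exact Submodule.smul_mem_smul (Ideal.mem_map_C_iff.1 ha i) (hmodJ (J.mul_mem_left _ hb))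
      | add x _ y _ hx hy => rw [Polynomial.add_modByMonic]; exact add_mem hx hy
    have := hlin z hzm
    rwa [(Polynomial.modByMonic_eq_self_iff hG).2
      (hzd'.trans_eq (by rw [degree_eq_natDegree hG.ne_zero, hGd]))] at this
  have hK0 := Submodule.eq_bot_of_le_smul_of_le_jacobson_bot _ K hKfg hle (maximalIdeal_le_jacobson _)
  exact (Submodule.eq_bot_iff _).1 hK0 f ⟨hf, Polynomial.mem_degreeLT.2 hfd⟩

/-- Powers of a regular pair form a regular pair. -/
theorem regular_pair_pow {A : Type u} [CommRing A] {x y : A} (hx : ∀ c, x * c = 0 → c = 0)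
    (hxy : ∀ c c', x * c' = y * c → x ∣ c) (M N : ℕ) :
    (∀ c, x ^ M * c = 0 → c = 0) ∧ ∀ c c', x ^ M * c' = y ^ N * c → x ^ M ∣ c := by
  have h1 : ∀ N : ℕ, ∀ c c', x * c' = y ^ N * c → x ∣ c := by
    intro N
    induction N with
    | zero => intro c c' h; exact ⟨c', by rw [h, pow_zero, one_mul]⟩
    | succ N ih =>
      intro c c' h
      obtain ⟨e, he⟩ := hxy (y ^ N * c) c' (by rw [h, pow_succ']; ring)
      exact ih c e he.symm
  induction M with
  | zero => exact ⟨fun c h => by simpa using h, fun c c' _ => ⟨c, by simp⟩⟩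
  | succ M ih =>
    refine ⟨fun c h => ih.1 _ (hx _ (by rw [← h, pow_succ']; ring)), fun c c' h => ?_⟩
    obtain ⟨e, he⟩ := h1 N c (x ^ M * c') (by rw [← h, pow_succ']; ring)
    have h2 : x ^ M * c' = y ^ N * e := by
      refine sub_eq_zero.1 (hx _ ?_)
      rw [mul_sub, sub_eq_zero]
      linear_combination h + y ^ N * he
    obtain ⟨w, hw⟩ := ih.2 e c' h2
    exact ⟨w, by rw [he, hw, pow_succ']; ring⟩

variable {A : Type u} [CommRing A]

theorem coeff_mem_map_C {I : Ideal A} {f : PowerSeries A} (hf : f ∈ I.map (PowerSeries.C (R := A))) (i : ℕ) :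
    PowerSeries.coeff i f ∈ I := by
  have hle : I.map (PowerSeries.C (R := A)) ≤ RingHom.ker (PowerSeries.map (Ideal.Quotient.mk I)) :=
    Ideal.map_le_iff_le_comap.2 fun a ha => by
      rw [Ideal.mem_comap, RingHom.mem_ker, PowerSeries.map_C, Ideal.Quotient.eq_zero_iff_mem.2 ha, map_zero]
  rw [← Ideal.Quotient.eq_zero_iff_mem, ← PowerSeries.coeff_map, RingHom.mem_ker.1 (hle hf), map_zero]

variable [IsNoetherianRing A]

theorem map_C_eq_ker (I : Ideal A) :
    I.map (PowerSeries.C (R := A)) = RingHom.ker (PowerSeries.map (Ideal.Quotient.mk I)) := by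
  refine le_antisymm (fun f hf => RingHom.mem_ker.2 (PowerSeries.ext fun i => ?_)) fun f hf => ?_
  · rw [PowerSeries.coeff_map, map_zero, Ideal.Quotient.eq_zero_iff_mem]
    exact coeff_mem_map_C hf i
  · refine mem_map_C (σ := Unit) (IsNoetherian.noetherian I) fun e => ?_
    obtain ⟨i, rfl⟩ : ∃ i, e = Finsupp.single () i := ⟨e (), Finsupp.unique_single e⟩
    have := congrArg (PowerSeries.coeff i) (RingHom.mem_ker.1 hf)
    rw [PowerSeries.coeff_map, map_zero, Ideal.Quotient.eq_zero_iff_mem] at this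
    exact this

theorem isPrime_map_C (p : Ideal A) [p.IsPrime] : (p.map (PowerSeries.C (R := A))).IsPrime := by
  rw [map_C_eq_ker]
  exact RingHom.ker_isPrime _

variable [IsLocalRing A]

/-- The core: an ideal of polynomials, locally generated by monic polynomials, over a ring of depth two. -/
theorem exists_monic_glue {x y : A} (hxm : x ∈ maximalIdeal A) (hym : y ∈ maximalIdeal A)
    (hx : ∀ c, x * c = 0 → c = 0) (hxy : ∀ c c', x * c' = y * c → x ∣ c) (J : Ideal A[X])
    (P : A[X]) (hP : P.Monic) (hPJ : P ∈ J)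
    (hmem : ∀ (p : Ideal A) [p.IsPrime], p ≠ maximalIdeal A → ∀ f ∈ J, (∀ i, f.coeff i ∈ p) →
      ∃ u ∉ p, C u * f ∈ p.map C * J) :
    ∃ Φ : A[X], Φ.Monic ∧ (∀ p : Ideal A, p.IsPrime → p ≠ maximalIdeal A → ∃ t ∉ p, C t * Φ ∈ J) ∧
      ∀ f ∈ J, Φ ∣ f := by
  classical
  -- the loci where the rank is `r`
  let a : ℕ → Ideal A := fun r =>
    { carrier := {s | (∃ F ∈ J, F.natDegree ≤ r ∧ F.coeff r = s) ∧ ∀ f ∈ J, f.degree < r → s • f = 0}
      zero_mem' := ⟨⟨0, J.zero_mem, by simp, coeff_zero r⟩, fun f _ _ => zero_smul A f⟩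
      add_mem' := by
        rintro s s' ⟨⟨F, hF, hFd, rfl⟩, hs⟩ ⟨⟨F', hF', hFd', rfl⟩, hs'⟩
        exact ⟨⟨F + F', J.add_mem hF hF', natDegree_add_le_of_degree_le hFd hFd', coeff_add _ _ _⟩,
          fun f hf hfd => by rw [add_smul, hs f hf hfd, hs' f hf hfd, add_zero]⟩
      smul_mem' := by
        rintro c s ⟨⟨F, hF, hFd, rfl⟩, hs⟩
        refine ⟨⟨C c * F, J.mul_mem_left _ hF, (natDegree_C_mul_le c F).trans hFd, ?_⟩, fun f hf hfd => ?_⟩
        · rw [coeff_C_mul, smul_eq_mul]
        · rw [smul_eq_mul, mul_smul, hs f hf hfd, smul_zero] }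
  have hcover : ∀ p : Ideal A, p.IsPrime → p ≠ maximalIdeal A → ∃ r, ¬ a r ≤ p := by
    intro p _ hpm
    let R := Localization.AtPrime p
    letI : Algebra A[X] R[X] := (mapRingHom (algebraMap A R)).toAlgebra
    haveI : IsLocalization (Submonoid.map (C (R := A)) p.primeCompl) R[X] := Polynomial.isLocalization p.primeCompl R
    have hlift : ∀ f ∈ J.map (algebraMap A[X] R[X]), ∃ u ∉ p, ∃ f₀ ∈ J,
        f * C (algebraMap A R u) = f₀.map (algebraMap A R) := by
      intro f hf
      obtain ⟨⟨⟨f₀, hf₀⟩, ⟨_, u, hu, rfl⟩⟩, h⟩ :=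
        (IsLocalization.mem_map_algebraMap_iff (Submonoid.map (C (R := A)) p.primeCompl) R[X]).1 hf
      refine ⟨u, hu, f₀, hf₀, ?_⟩
      rw [← map_C]
      exact h
    obtain ⟨G, hGJ, hG, hGK⟩ := exists_monic_local (J.map (algebraMap A[X] R[X])) (P.map (algebraMap A R))
      (hP.map _) (Ideal.mem_map_of_mem (algebraMap A[X] R[X]) hPJ) fun f hf hfm => by
        obtain ⟨u, hu, f₀, hf₀, he⟩ := hlift f hf
        have hf₀p : ∀ i, f₀.coeff i ∈ p := fun i => by
          rw [← IsLocalization.AtPrime.to_map_mem_maximal_iff R p, ← Polynomial.coeff_map, ← he, coeff_mul_C]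
          exact Ideal.mul_mem_right _ _ (hfm i)
        obtain ⟨w, hw, hwf⟩ := hmem p hpm f₀ hf₀ hf₀p
        have h2 := Ideal.mem_map_of_mem (algebraMap A[X] R[X]) hwf
        rw [Ideal.map_mul, map_mul] at h2
        have hpC : (p.map (C : A →+* A[X])).map (algebraMap A[X] R[X]) ≤ (maximalIdeal R).map C := by
          rw [Ideal.map_map, Ideal.map_le_iff_le_comap]
          intro c hc
          rw [Ideal.mem_comap, RingHom.comp_apply, RingHom.algebraMap_toAlgebra, coe_mapRingHom, map_C]
          exact Ideal.mem_map_of_mem _ ((IsLocalization.AtPrime.to_map_mem_maximal_iff R p c).2 hc)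
        have h3 := Ideal.mul_mono_left hpC h2
        rw [RingHom.algebraMap_toAlgebra, coe_mapRingHom, map_C, ← he] at h3
        have hunit : IsUnit (C (algebraMap A R w) * C (algebraMap A R u) : R[X]) :=
          ((IsLocalization.map_units R (⟨w, hw⟩ : p.primeCompl)).map C).mul
            ((IsLocalization.map_units R (⟨u, hu⟩ : p.primeCompl)).map C)
        rw [show C (algebraMap A R w) * (f * C (algebraMap A R u)) =
          (C (algebraMap A R w) * C (algebraMap A R u)) * f by ring] at h3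
        exact (Ideal.unit_mul_mem_iff_mem _ hunit).1 h3
    obtain ⟨r, hr⟩ : ∃ r, r = G.natDegree := ⟨_, rfl⟩
    refine ⟨r, fun hle => ?_⟩
    -- an element of `a r` outside `p`
    obtain ⟨u, hu, F₀, hF₀, he⟩ := hlift G hGJ
    have htop : ∀ i, r < i → algebraMap A R (F₀.coeff i) = 0 := fun i hi => by
      rw [← Polynomial.coeff_map, ← he, coeff_mul_C, coeff_eq_zero_of_natDegree_lt (hr ▸ hi), zero_mul]
    choose! v hv using fun i (hi : r < i) => (IsLocalization.map_eq_zero_iff p.primeCompl R _).1 (htop i hi)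
    let S := (Finset.range (F₀.natDegree + 1)).filter (r < ·)
    let t := ∏ i ∈ S, (v i : A)
    have ht : t ∉ p := fun h => by
      obtain ⟨i, _, hi⟩ := (Ideal.IsPrime.prod_mem_iff).1 h
      exact (v i).2 hi
    have hFd : (C t * F₀).natDegree ≤ r := natDegree_le_iff_coeff_eq_zero.2 fun i hi => by
      rw [coeff_C_mul]
      by_cases hi' : i ≤ F₀.natDegree
      · rw [show t = (v i : A) * ∏ j ∈ S.erase i, (v j : A) from
          (Finset.mul_prod_erase S (fun j => (v j : A)) (by simp [S, Nat.lt_succ_of_le hi', hi])).symm,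
          mul_right_comm, hv i hi, zero_mul]
      · rw [coeff_eq_zero_of_natDegree_lt (not_le.1 hi'), mul_zero]
    have hlead : (C t * F₀).coeff r ∉ p := fun h => by
      rw [coeff_C_mul] at h
      refine ((Ideal.IsPrime.mem_or_mem ‹_› h).resolve_left ht |> fun h' => ?_)
      rw [← IsLocalization.AtPrime.to_map_mem_maximal_iff R p, ← Polynomial.coeff_map, ← he, coeff_mul_C, hr,
        hG.coeff_natDegree, one_mul, IsLocalization.AtPrime.to_map_mem_maximal_iff R p] at h'
      exact hu h'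
    let K : Submodule A A[X] := J.restrictScalars A ⊓ Polynomial.degreeLT A r
    haveI : Module.Finite A (Polynomial.degreeLT A r) := Module.Finite.equiv (Polynomial.degreeLTEquiv A r).symm
    obtain ⟨l, z, hz⟩ := Submodule.fg_iff_exists_fin_generating_family.1
      (Submodule.FG.of_le (Module.Finite.iff_fg.1 ‹Module.Finite A (Polynomial.degreeLT A r)›)
        (inf_le_right : K ≤ Polynomial.degreeLT A r))
    have hzK : ∀ i, z i ∈ K := fun i => hz.le (Submodule.subset_span ⟨i, rfl⟩)
    have hkill : ∀ i, ∃ w : p.primeCompl, (w : A) • z i = 0 := fun i => by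
      have hz0 : (z i).map (algebraMap A R) = 0 :=
        hGK _ (Ideal.mem_map_of_mem (algebraMap A[X] R[X]) (hzK i).1)
          (lt_of_le_of_lt degree_map_le ((Polynomial.mem_degreeLT.1 (hzK i).2).trans_eq (by rw [hr])))
      obtain ⟨⟨_, w, hw, rfl⟩, hw0⟩ :=
        (IsLocalization.map_eq_zero_iff (Submonoid.map (C (R := A)) p.primeCompl) R[X] (z i)).1 hz0
      exact ⟨⟨w, hw⟩, by rw [smul_eq_C_mul]; exact hw0⟩
    choose w hw using hkill
    refine absurd (hle (show (∏ i, (w i : A)) * (C t * F₀).coeff r ∈ a r from ⟨?_, ?_⟩)) fun h => ?_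
    · exact ⟨C (∏ i, (w i : A)) * (C t * F₀), J.mul_mem_left _ (J.mul_mem_left _ hF₀),
        (natDegree_C_mul_le _ _).trans hFd, coeff_C_mul _⟩
    · intro f hf hfd
      have this : f ∈ Submodule.span A (Set.range z) := hz.ge ⟨hf, Polynomial.mem_degreeLT.2 hfd⟩
      clear hf hfd
      induction this using Submodule.span_induction with
      | mem q hq =>
        obtain ⟨i, rfl⟩ := hq
        rw [← Finset.prod_erase_mul _ _ (Finset.mem_univ i), mul_right_comm, mul_smul, hw, smul_zero]
      | zero => simp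
      | add q q' _ _ h h' => rw [smul_add, h, h', add_zero]
      | smul c q _ h => rw [smul_comm, h, smul_zero]
    · rcases Ideal.IsPrime.mem_or_mem ‹_› h with h | h
      · obtain ⟨i, _, hi⟩ := (Ideal.IsPrime.prod_mem_iff).1 h
        exact (w i).2 hi
      · exact hlead h
  -- different ranks do not meet
  have horth : ∀ r r', r ≠ r' → ∀ s ∈ a r, ∀ s' ∈ a r', s * s' = 0 := by
    have key : ∀ r r', r < r' → ∀ s ∈ a r, ∀ s' ∈ a r', s * s' = 0 := by
      intro r r' h s hs s' hs'
      obtain ⟨⟨F, hF, hFd, rfl⟩, -⟩ := hs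
      have h0 := hs'.2 F hF (lt_of_le_of_lt degree_le_natDegree (by exact_mod_cast lt_of_le_of_lt hFd h))
      have := congrArg (fun q => Polynomial.coeff q r) h0
      rwa [coeff_smul, smul_eq_mul, coeff_zero, mul_comm] at this
    intro r r' h s hs s' hs'
    rcases lt_or_gt_of_ne h with h | h
    · exact key r r' h s hs s' hs'
    · rw [mul_comm]; exact key r' r h s' hs' s hs
  -- powers of `x` and `y` in a given ideal
  have hrad : ∀ I : Ideal A, (∀ p : Ideal A, p.IsPrime → p ≠ maximalIdeal A → ¬ I ≤ p) →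
      ∃ M : ℕ, x ^ M ∈ I ∧ y ^ M ∈ I := by
    intro I hI
    have hle : maximalIdeal A ≤ I.radical := by
      rw [Ideal.radical_eq_sInf]
      refine le_sInf fun p hp => ?_
      by_contra hc
      exact hI p hp.2 (fun h => hc h.ge) hp.1
    obtain ⟨M, hM⟩ := hle hxm
    obtain ⟨N, hN⟩ := hle hym
    refine ⟨M + N, ?_, ?_⟩
    · rw [pow_add]; exact I.mul_mem_right _ hM
    · rw [pow_add]; exact I.mul_mem_left _ hN
  -- there is a prime other than the maximal ideal
  obtain ⟨p₀, hp₀, hp₀m⟩ : ∃ p : Ideal A, p.IsPrime ∧ p ≠ maximalIdeal A := by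
    by_contra hc
    push Not at hc
    obtain ⟨M, hM⟩ : IsNilpotent x := mem_nilradical.1 (by
      rw [nilradical_eq_sInf, Ideal.mem_sInf]
      exact fun {q} hq => (hc q hq).symm ▸ hxm)
    have h0 := (regular_pair_pow hx hxy M 1).1 1 (by rwa [mul_one])
    exact one_ne_zero h0
  obtain ⟨r₀, hr₀⟩ := hcover p₀ hp₀ hp₀m
  let a' : Ideal A := ⨆ r ∈ {r : ℕ | r ≠ r₀}, a r
  have horth' : ∀ s ∈ a r₀, ∀ s' ∈ a', s * s' = 0 := by
    intro s hs
    have hle : a' ≤ Submodule.torsionBy A A s := iSup₂_le fun r hr s' hs' =>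
      (Submodule.mem_torsionBy_iff s s').2 (by rw [smul_eq_mul]; exact horth r₀ r (Ne.symm hr) s hs s' hs')
    intro s' hs'
    exact (Submodule.mem_torsionBy_iff s s').1 (hle hs')
  obtain ⟨M, hMx, hMy⟩ := hrad (a r₀ ⊔ a') fun p hp hpm hle => by
    obtain ⟨r, hr⟩ := hcover p hp hpm
    rcases eq_or_ne r r₀ with rfl | hne
    · exact hr (le_sup_left.trans hle)
    · exact hr ((le_biSup a hne).trans (le_sup_right.trans hle))
  obtain ⟨hX, hXY⟩ := regular_pair_pow hx hxy M M
  obtain ⟨u₁, hu₁, u₂, hu₂, hu⟩ := Submodule.mem_sup.1 hMx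
  obtain ⟨v₁, hv₁, v₂, hv₂, hv⟩ := Submodule.mem_sup.1 hMy
  have e1 : x ^ M * v₁ = y ^ M * u₁ := by
    rw [← hu, ← hv]
    linear_combination horth' v₁ hv₁ u₂ hu₂ - horth' u₁ hu₁ v₂ hv₂
  obtain ⟨e, he⟩ := hXY u₁ v₁ e1
  have he2 : e * (1 - e) = 0 := by
    refine hX _ (hX _ ?_)
    have := horth' u₁ hu₁ u₂ hu₂
    rw [show u₂ = x ^ M - x ^ M * e by rw [← he]; linear_combination hu, he] at this
    linear_combination this
  have heu : IsUnit e := by
    rcases IsLocalRing.isUnit_or_isUnit_one_sub_self e with h | h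
    · exact h
    · exfalso
      have he0 : e = 0 := h.mul_left_eq_zero.1 he2
      have hx2 : x ^ M ∈ a' := by
        rw [← hu, he, he0, mul_zero, zero_add]; exact hu₂
      exact hr₀ fun s hs => by
        have : s = 0 := hX s (by rw [mul_comm]; exact horth' s hs _ hx2)
        rw [this]; exact p₀.zero_mem
  have he1 : e = 1 := by
    have := heu.mul_right_eq_zero.1 he2
    linear_combination -this
  have hxa : x ^ M ∈ a r₀ := by rwa [show x ^ M = u₁ by rw [he, he1, mul_one]]
  have hya : y ^ M ∈ a r₀ := by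
    have hv2 : x ^ M * v₂ = 0 := horth' _ hxa _ hv₂
    rw [← hv, hX _ hv2, add_zero]; exact hv₁
  obtain ⟨⟨F, hF, hFd, hFr⟩, hKx⟩ := hxa
  obtain ⟨⟨F', hF', hFd', hFr'⟩, -⟩ := hya
  have hKzero : ∀ f ∈ J, f.degree < r₀ → f = 0 := fun f hf hfd => Polynomial.ext fun i => by
    refine (hX _ ?_).trans (coeff_zero i).symm
    rw [← smul_eq_mul, ← coeff_smul, hKx f hf hfd, coeff_zero]
  have hFF' : C (y ^ M) * F = C (x ^ M) * F' := by
    refine sub_eq_zero.1 (hKzero _ (J.sub_mem (J.mul_mem_left _ hF) (J.mul_mem_left _ hF')) ?_)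
    refine (degree_lt_iff_coeff_zero _ _).2 fun i hi => ?_
    rw [coeff_sub, coeff_C_mul, coeff_C_mul]
    rcases eq_or_lt_of_le hi with rfl | hlt
    · rw [hFr, hFr', mul_comm, sub_self]
    · rw [coeff_eq_zero_of_natDegree_lt (lt_of_le_of_lt hFd hlt),
        coeff_eq_zero_of_natDegree_lt (lt_of_le_of_lt hFd' hlt), mul_zero, mul_zero, sub_self]
  obtain ⟨Φ, hΦ⟩ : C (x ^ M) ∣ F := (C_dvd_iff_dvd_coeff _ _).2 fun i => by
    refine hXY _ (F'.coeff i) ?_
    rw [← coeff_C_mul, ← hFF', coeff_C_mul]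
  have hΦc : ∀ i, x ^ M * Φ.coeff i = F.coeff i := fun i => by rw [← coeff_C_mul, ← hΦ]
  have hΦr : Φ.coeff r₀ = 1 := by
    refine sub_eq_zero.1 (hX _ ?_)
    rw [mul_sub, hΦc, hFr, mul_one, sub_self]
  have hΦd : Φ.natDegree ≤ r₀ := natDegree_le_iff_coeff_eq_zero.2 fun i hi =>
    hX _ (by rw [hΦc, coeff_eq_zero_of_natDegree_lt (lt_of_le_of_lt hFd hi)])
  have hΦm : Φ.Monic := monic_of_natDegree_le_of_coeff_eq_one r₀ hΦd hΦr
  have hΦnd : Φ.natDegree = r₀ :=
    le_antisymm hΦd (le_natDegree_of_ne_zero (by rw [hΦr]; exact one_ne_zero))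
  have hxΦ : C (x ^ M) * Φ ∈ J := hΦ ▸ hF
  refine ⟨Φ, hΦm, fun p hp hpm => ?_, fun f hf => ?_⟩
  · obtain ⟨r, hr⟩ := hcover p hp hpm
    obtain rfl : r = r₀ := by
      by_contra hne
      refine hr fun s hs => ?_
      have h0 : s = 0 := hX s (horth r₀ r (Ne.symm hne) _ ⟨⟨F, hF, hFd, hFr⟩, hKx⟩ s hs)
      rw [h0]; exact p.zero_mem
    obtain ⟨t, ht, htp⟩ := SetLike.not_le_iff_exists.1 hr
    obtain ⟨⟨G, hG, hGd, hGr⟩, -⟩ := ht
    refine ⟨t, htp, ?_⟩
    have hdiff : C (x ^ M) * G = C t * F := by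
      refine sub_eq_zero.1 (hKzero _ (J.sub_mem (J.mul_mem_left _ hG) (J.mul_mem_left _ hF)) ?_)
      refine (degree_lt_iff_coeff_zero _ _).2 fun i hi => ?_
      rw [coeff_sub, coeff_C_mul, coeff_C_mul]
      rcases eq_or_lt_of_le hi with rfl | hlt
      · rw [hFr, hGr, mul_comm, sub_self]
      · rw [coeff_eq_zero_of_natDegree_lt (lt_of_le_of_lt hGd hlt),
          coeff_eq_zero_of_natDegree_lt (lt_of_le_of_lt hFd hlt), mul_zero, mul_zero, sub_self]
    rw [show C t * Φ = G from ?_]
    · exact hG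
    · refine Polynomial.ext fun i => sub_eq_zero.1 (hX _ ?_)
      have h1 := congrArg (fun q => Polynomial.coeff q i) hdiff
      simp only [coeff_C_mul] at h1
      rw [coeff_C_mul, mul_sub, h1, ← hΦc]
      ring
  · have hrem : f %ₘ Φ = 0 := by
      have h1 : C (x ^ M) * (f %ₘ Φ) ∈ J := by
        rw [Polynomial.modByMonic_eq_sub_mul_div, mul_sub, ← mul_assoc]
        exact J.sub_mem (J.mul_mem_left _ hf) (J.mul_mem_right _ hxΦ)
      have hd : (f %ₘ Φ).degree < r₀ :=
        (degree_modByMonic_lt f hΦm).trans_eq (by rw [degree_eq_natDegree hΦm.ne_zero, hΦnd])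
      have h2 := hKzero _ h1 (lt_of_le_of_lt (by rw [← smul_eq_C_mul]; exact degree_smul_le _ _) hd)
      refine Polynomial.ext fun i => (hX _ ?_).trans (coeff_zero i).symm
      rw [← coeff_C_mul, h2, coeff_zero]
    exact (Polynomial.modByMonic_eq_zero_iff_dvd hΦm).1 hrem

end GrothLib.RamSam
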