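import Groth.Agent.Lib.RamSam.ExtSplit
import Groth.Agent.Lib.RamSam.Depth2
import Groth.Agent.Lib.Depth.CM
import Mathlib.RingTheory.Filtration
import Mathlib.RingTheory.Flat.Basic

/-!
# Lifting trivialisations on punctured spectra along an ideal with free graded pieces

The algebraic core of: the punctured Picard group of `B` injects into that of `B/J` if `B/J` has
depth at least three and the graded pieces of the `J`-adic filtration are free over `B/J`.
-/

set_option autoImplicit false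
set_option linter.style.haveILetI false

universe u

open IsLocalRing

namespace GrothLib.RamSam

section

variable {B : Type u} [CommRing B] {M : Type u} [AddCommGroup M] [Module B M]

/-- Free of rank one at every prime other than the closed point. -/
def GenPunct (S : Type u) [CommRing S] [IsLocalRing S] (M : Type u) [AddCommGroup M] [Module S M] : Prop :=
  ∀ P : Ideal S, P.IsPrime → P ≠ maximalIdeal S → ∃ (m : M) (s : S), s ∉ P ∧ GenAt m s

/-- A functional bijective at every prime other than the closed point. -/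
def IsTrivPunct (S : Type u) [CommRing S] [IsLocalRing S] {M : Type u} [AddCommGroup M] [Module S M]
    (ψ : M →ₗ[S] S) : Prop :=
  ∀ P : Ideal S, P.IsPrime → P ≠ maximalIdeal S → ∃ (m : M) (s : S), s ∉ P ∧ GenAt m s ∧ ψ m ∉ P

/-- Modules free of rank one off the closed point are trivial there. -/
def ModuleTriv (S : Type u) [CommRing S] [IsLocalRing S] : Prop :=
  ∀ (M : Type u) [AddCommGroup M] [Module S M] [Module.Finite S M],
    GenPunct S M → ∃ ψ : M →ₗ[S] S, IsTrivPunct S ψ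

/-- A family of powers bounded on generators is bounded. -/
theorem exists_uniform [Module.Finite B M] {m : M} {s : B} (h : GenAt m s) :
    ∃ K : ℕ, ∀ x : M, ∃ b : B, s ^ K • x = b • m := by
  classical
  obtain ⟨r, x, hx⟩ := Module.Finite.exists_fin (R := B) (M := M)
  choose k b hb using fun i => h.1 (x i)
  refine ⟨Finset.univ.sup k, fun y => ?_⟩
  have hy : y ∈ Submodule.span B (Set.range x) := hx ▸ Submodule.mem_top
  induction hy using Submodule.span_induction with
  | mem z hz =>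
    obtain ⟨i, rfl⟩ := hz
    refine ⟨s ^ (Finset.univ.sup k - k i) * b i, ?_⟩
    rw [mul_smul, ← hb, smul_smul, ← pow_add, Nat.sub_add_cancel (Finset.le_sup (Finset.mem_univ i))]
  | zero => exact ⟨0, by simp⟩
  | add z w _ _ hz hw =>
    obtain ⟨c, hc⟩ := hz
    obtain ⟨d, hd⟩ := hw
    exact ⟨c + d, by rw [smul_add, hc, hd, add_smul]⟩
  | smul a z _ hz =>
    obtain ⟨c, hc⟩ := hz
    exact ⟨a * c, by rw [smul_comm, hc, smul_smul]⟩

/-- The dual of a module generated at `s` is generated at `s` by a suitable functional. -/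
theorem exists_genAt_dual [IsNoetherianRing B] [Module.Finite B M] {m : M} {s : B} (h : GenAt m s) :
    ∃ (φ : M →ₗ[B] B) (k : ℕ), φ m = s ^ k ∧ GenAt φ s := by
  obtain ⟨φ, k, hφ⟩ := exists_functional h
  obtain ⟨K, hK⟩ := exists_uniform h
  refine ⟨φ, k, hφ, fun f => ⟨K + k, s ^ K * f m, LinearMap.ext fun x => ?_⟩, fun b hb => ⟨k, ?_⟩⟩
  · obtain ⟨c, hc⟩ := hK x
    have h1 : s ^ K * f x = c * f m := by
      have := congrArg f hc
      simpa [map_smul] using this
    have h2 : s ^ K * φ x = c * s ^ k := by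
      have := congrArg φ hc
      simpa [map_smul, hφ] using this
    show s ^ (K + k) * f x = s ^ K * f m * φ x
    rw [pow_add]
    linear_combination s ^ k * h1 - f m * h2
  · have := LinearMap.congr_fun hb m
    rw [LinearMap.smul_apply, hφ, smul_eq_mul, LinearMap.zero_apply] at this
    rw [mul_comm]
    exact this

theorem genPunct_dual [IsLocalRing B] [IsNoetherianRing B] [Module.Finite B M] (h : GenPunct B M) :
    GenPunct B (M →ₗ[B] B) := fun P hP hne => by
  obtain ⟨m, s, hs, hm⟩ := h P hP hne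
  obtain ⟨φ, _, _, hφ⟩ := exists_genAt_dual hm
  exact ⟨φ, s, hs, hφ⟩

variable (J : Ideal B)

/-- Reduction modulo `J` of a generated module. -/
theorem genAt_quotient {m : M} {s : B} (h : GenAt m s) :
    GenAt (B := B ⧸ J) (Submodule.Quotient.mk (p := J • (⊤ : Submodule B M)) m) (Ideal.Quotient.mk J s) := by
  refine ⟨fun x => ?_, fun b hb => ?_⟩
  · obtain ⟨y, rfl⟩ := Submodule.Quotient.mk_surjective _ x
    obtain ⟨k, c, hc⟩ := h.1 y
    refine ⟨k, Ideal.Quotient.mk J c, ?_⟩
    rw [← map_pow]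
    exact congrArg (Submodule.Quotient.mk (p := J • (⊤ : Submodule B M))) hc
  · obtain ⟨b, rfl⟩ := Ideal.Quotient.mk_surjective b
    have hmem : b • m ∈ J • (⊤ : Submodule B M) := (Submodule.Quotient.mk_eq_zero _).1 hb
    have key : ∀ y ∈ J • (⊤ : Submodule B M), ∃ (k : ℕ), ∃ d ∈ J, s ^ k • y = d • m := by
      intro y hy
      refine Submodule.smul_induction_on hy (fun j hj z _ => ?_) ?_
      · obtain ⟨k, c, hc⟩ := h.1 z
        exact ⟨k, j * c, J.mul_mem_right c hj, by rw [smul_comm, hc, smul_smul]⟩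
      · rintro y z ⟨k, d, hd, hy⟩ ⟨l, e, he, hz⟩
        refine ⟨k + l, s ^ l * d + s ^ k * e, J.add_mem (J.mul_mem_left _ hd) (J.mul_mem_left _ he), ?_⟩
        rw [smul_add, add_smul, mul_smul, mul_smul, ← hy, ← hz, smul_smul, smul_smul, ← pow_add, ← pow_add,
          add_comm l k]
    obtain ⟨k, d, hd, hk⟩ := key _ hmem
    obtain ⟨l, hl⟩ := h.2 (s ^ k * b - d) (by rw [sub_smul, mul_smul, hk, sub_self])
    refine ⟨l + k, ?_⟩
    rw [← map_pow, ← map_mul, Ideal.Quotient.eq_zero_iff_mem,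
      show s ^ (l + k) * b = s ^ l * d by rw [pow_add]; linear_combination hl]
    exact J.mul_mem_left _ hd

variable [IsLocalRing B] [IsLocalRing (B ⧸ J)]

theorem comap_ne_maximal {P : Ideal (B ⧸ J)} (hne : P ≠ maximalIdeal (B ⧸ J)) :
    P.comap (Ideal.Quotient.mk J) ≠ maximalIdeal B := fun h => by
  refine hne ?_
  have h1 := congrArg (Ideal.map (Ideal.Quotient.mk J)) h
  rw [Ideal.map_comap_of_surjective _ Ideal.Quotient.mk_surjective] at h1
  haveI : (maximalIdeal B).IsMaximal := inferInstance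
  rcases Ideal.map_eq_top_or_isMaximal_of_surjective (Ideal.Quotient.mk J) Ideal.Quotient.mk_surjective
    (inferInstance : (maximalIdeal B).IsMaximal) with h2 | h2
  · exfalso
    rw [h2] at h1
    exact (maximalIdeal.isMaximal B).ne_top (by rw [← h, h1, Ideal.comap_top])
  · exact IsLocalRing.eq_maximalIdeal (h1 ▸ h2)

theorem genPunct_quotient (h : GenPunct B M) : GenPunct (B ⧸ J) (M ⧸ J • (⊤ : Submodule B M)) := by
  intro P hP hne
  obtain ⟨m, s, hs, hm⟩ := h (P.comap (Ideal.Quotient.mk J)) inferInstance (comap_ne_maximal J hne)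
  exact ⟨_, Ideal.Quotient.mk J s, hs, genAt_quotient J hm⟩

end

/-- A free finite module over a ring of depth `≥ n` has depth `≥ n`. -/
theorem le_depth_of_free {S : Type u} [CommRing S] [IsLocalRing S] [IsNoetherianRing S] {n : ℕ}
    (h : (n : ℕ∞) ≤ LocCoh.depth S S) (G : Type u) [AddCommGroup G] [Module S G] [Module.Finite S G]
    [Module.Free S G] : (n : ℕ∞) ≤ LocCoh.depth S G := by
  have hne : maximalIdeal S • (⊤ : Submodule S S) ≠ ⊤ := by
    rw [smul_eq_mul, Ideal.mul_top]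
    exact (maximalIdeal.isMaximal S).ne_top
  obtain ⟨rs, hlen, hmem, hreg⟩ := (Depth.le_idealDepth_iff_exists (maximalIdeal S) hne n).1 h
  by_cases hG : maximalIdeal S • (⊤ : Submodule S G) = ⊤
  · rw [LocCoh.depth, LocCoh.idealDepth, if_pos hG]
    exact le_top
  refine (Depth.le_idealDepth_iff_exists (maximalIdeal S) hG n).2 ⟨rs, hlen, hmem, ?_⟩
  exact ((TensorProduct.lid S G).isWeaklyRegular_congr rs).1
    (RingTheory.Sequence.IsWeaklyRegular.isWeaklyRegular_rTensor (M₂ := G) hreg)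

/-- An element which is a non-unit and lies in no prime but the closed point does not exist in depth two. -/
theorem isUnit_of_forall_notMem {S : Type u} [CommRing S] [IsLocalRing S] [IsNoetherianRing S]
    (hd : (2 : ℕ∞) ≤ LocCoh.depth S S) {a : S}
    (h : ∀ P : Ideal S, P.IsPrime → P ≠ maximalIdeal S → a ∉ P) : IsUnit a := by
  by_contra ha
  obtain ⟨q, hq⟩ := Ideal.nonempty_minimalPrimes (I := Ideal.span {a})
    fun h' => ha (Ideal.span_singleton_eq_top.1 h')
  haveI : q.IsPrime := hq.1.1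
  have hqm : q = maximalIdeal S := by
    by_contra hne
    exact h q inferInstance hne (hq.1.2 (Ideal.mem_span_singleton_self a))
  have hht := Ideal.height_le_one_of_isPrincipal_of_mem_minimalPrimes (Ideal.span {a}) q hq
  have hdim : (LocCoh.depth S S : WithBot ℕ∞) ≤ ringKrullDim S := by
    have := Depth.depth_le_supportDim S (M := S)
    rwa [Module.supportDim_self_eq_ringKrullDim] at this
  rw [← IsLocalRing.maximalIdeal_height_eq_ringKrullDim, ← hqm] at hdim
  have h2 : (2 : ℕ∞) ≤ q.height := hd.trans (WithBot.coe_le_coe.1 hdim)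
  exact absurd (h2.trans hht) (by decide)

section lift

variable {B : Type u} [CommRing B] [IsLocalRing B] [IsNoetherianRing B] (J : Ideal B) [IsLocalRing (B ⧸ J)]

/-- One step of lifting a functional along the powers of `J`. -/
theorem exists_lift_step (hd : (3 : ℕ∞) ≤ LocCoh.depth (B ⧸ J) (B ⧸ J)) (n : ℕ)
    [Module.Free (B ⧸ J) (↥(J ^ n) ⧸ (J • (⊤ : Submodule B ↥(J ^ n))))]
    (M : Type u) [AddCommGroup M] [Module B M] [Module.Finite B M] (hM : GenPunct B M)
    (ψ₀ : (M ⧸ J • (⊤ : Submodule B M)) →ₗ[B ⧸ J] B ⧸ J) (hψ₀ : IsTrivPunct (B ⧸ J) ψ₀)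
    (φ : M →ₗ[B] B ⧸ J ^ n) :
    ∃ ψ : M →ₗ[B] B ⧸ J ^ (n + 1),
      ∀ x, Ideal.Quotient.factor (Ideal.pow_le_pow_right n.le_succ) (ψ x) = φ x := by
  classical
  have hle : J ^ (n + 1) ≤ J ^ n := Ideal.pow_le_pow_right n.le_succ
  let q : (B ⧸ J ^ (n + 1)) →ₗ[B] B ⧸ J ^ n := (Ideal.Quotient.factorₐ B hle).toLinearMap
  let E : Submodule B (M × (B ⧸ J ^ (n + 1))) :=
    LinearMap.eqLocus (φ.comp (LinearMap.fst B M _)) (q.comp (LinearMap.snd B M _))
  let p : E →ₗ[B] M := (LinearMap.fst B M (B ⧸ J ^ (n + 1))).comp E.subtype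
  have hp : Function.Surjective p := fun x => by
    obtain ⟨b, hb⟩ := Ideal.Quotient.mk_surjective (φ x)
    exact ⟨⟨(x, Ideal.Quotient.mk _ b), hb.symm⟩, rfl⟩
  let i : ↥(J ^ n) →ₗ[B] E :=
    { toFun := fun j => ⟨(0, Ideal.Quotient.mk (J ^ (n + 1)) j.1),
        (map_zero φ).trans (Ideal.Quotient.eq_zero_iff_mem.2 j.2).symm⟩
      map_add' := fun a b => Subtype.ext (Prod.ext (zero_add 0).symm (map_add _ a.1 b.1))
      map_smul' := fun r a => Subtype.ext (Prod.ext (smul_zero r).symm rfl) }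
  -- elements of `J E` above zero come from `J`-multiples
  have hJe : ∀ (e : E) (P : Ideal B), P.IsPrime → P ≠ maximalIdeal B → e ∈ J • (⊤ : Submodule B E) → p e = 0 →
      ∃ t ∉ P, t • e = 0 := by
    intro e P hP hne he hpe
    obtain ⟨m, s, hs, hm⟩ := hM P hP hne
    obtain ⟨em, hem⟩ := hp m
    have key : ∀ e ∈ J • (⊤ : Submodule B E), ∃ k : ℕ, ∃ d ∈ J, s ^ k • e = d • em := by
      intro e he
      refine Submodule.smul_induction_on he (fun j hj z _ => ?_) ?_
      · obtain ⟨k, c, hc⟩ := hm.1 (p z)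
        refine ⟨k, j * c, J.mul_mem_right c hj, ?_⟩
        have h0 : p (s ^ k • z - c • em) = 0 := by rw [map_sub, map_smul, map_smul, hem, hc, sub_self]
        obtain ⟨⟨x, b⟩, hxb⟩ : ∃ w, (s ^ k • z - c • em).1 = w := ⟨_, rfl⟩
        have hx : x = 0 := by
          rw [← h0]
          exact (congrArg Prod.fst hxb).symm
        have hbq : q b = 0 := by
          have := (s ^ k • z - c • em).2
          rw [LinearMap.mem_eqLocus, hxb] at this
          exact this.symm.trans (hx ▸ map_zero φ)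
        have hjb : j • b = 0 := by
          obtain ⟨b', rfl⟩ := Ideal.Quotient.mk_surjective b
          have hb' : b' ∈ J ^ n := Ideal.Quotient.eq_zero_iff_mem.1 hbq
          exact Ideal.Quotient.eq_zero_iff_mem.2 (pow_succ' J n ▸ Ideal.mul_mem_mul hj hb')
        have h3 : j • (s ^ k • z - c • em) = 0 :=
          Subtype.ext <| by
            show j • (s ^ k • z - c • em).1 = 0
            rw [hxb, hx]
            exact Prod.ext (smul_zero j) hjb
        rw [smul_sub, sub_eq_zero] at h3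
        rw [smul_comm, h3, smul_smul]
      · rintro y z ⟨k, d, hd', hy⟩ ⟨l, e', he', hz⟩
        refine ⟨k + l, s ^ l * d + s ^ k * e', J.add_mem (J.mul_mem_left _ hd') (J.mul_mem_left _ he'), ?_⟩
        rw [smul_add, add_smul, mul_smul, mul_smul, ← hy, ← hz, smul_smul, smul_smul, ← pow_add, ← pow_add,
          add_comm l k]
    obtain ⟨k, d, hd', hk⟩ := key e he
    obtain ⟨l, hl⟩ := hm.2 d (by rw [← hem, ← map_smul, ← hk, map_smul, hpe, smul_zero])
    exact ⟨s ^ (l + k), fun h => hs (hP.mem_of_pow_mem _ h),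
      by rw [pow_add s l k, mul_smul, hk, smul_smul, hl, zero_smul]⟩
  -- pass to `B ⧸ J`
  let G := ↥(J ^ n) ⧸ (J • (⊤ : Submodule B ↥(J ^ n)))
  let E₀ := E ⧸ J • (⊤ : Submodule B E)
  let ιB : G →ₗ[B] E₀ := Submodule.mapQ _ _ i (by
    rw [← Submodule.map_le_iff_le_comap, Submodule.map_smul'']
    exact Submodule.smul_mono le_rfl le_top)
  let πB : E₀ →ₗ[B] M ⧸ J • (⊤ : Submodule B M) := Submodule.mapQ _ _ p (by
    rw [← Submodule.map_le_iff_le_comap, Submodule.map_smul'']
    exact Submodule.smul_mono le_rfl le_top)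
  let ι := ιB.extendScalarsOfSurjective (S := B ⧸ J) Ideal.Quotient.mk_surjective
  let π := πB.extendScalarsOfSurjective (S := B ⧸ J) Ideal.Quotient.mk_surjective
  haveI : Module.Finite (B ⧸ J) G := Module.Finite.of_restrictScalars_finite B (B ⧸ J) G
  haveI : Module.Finite (B ⧸ J) (M ⧸ J • (⊤ : Submodule B M)) :=
    Module.Finite.of_restrictScalars_finite B (B ⧸ J) _
  have hG : (3 : ℕ∞) ≤ LocCoh.depth (B ⧸ J) G := le_depth_of_free (n := 3) hd G
  have hιdef : ∀ j : ↥(J ^ n), ι (Submodule.Quotient.mk j) = Submodule.Quotient.mk (i j) := fun _ => rfl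
  have hπdef : ∀ e : E, π (Submodule.Quotient.mk e) = Submodule.Quotient.mk (p e) := fun _ => rfl
  have hι : Function.Injective ι := by
    rw [injective_iff_map_eq_zero]
    intro g hg
    obtain ⟨j, rfl⟩ := Submodule.Quotient.mk_surjective _ g
    rw [hιdef, Submodule.Quotient.mk_eq_zero] at hg
    have hkill : ∀ P : Ideal (B ⧸ J), P.IsPrime → P ≠ maximalIdeal (B ⧸ J) →
        ∃ t ∉ P, t • (Submodule.Quotient.mk j : G) = 0 := by
      intro P hP hne
      obtain ⟨t, ht, htj⟩ := hJe (i j) (P.comap (Ideal.Quotient.mk J)) inferInstance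
        (comap_ne_maximal J hne) hg rfl
      refine ⟨Ideal.Quotient.mk J t, ht, ?_⟩
      have h1 : t * j.1 ∈ J ^ (n + 1) :=
        Ideal.Quotient.eq_zero_iff_mem.1 (congrArg Prod.snd (congrArg Subtype.val htj))
      show (Submodule.Quotient.mk (t • j) : G) = 0
      rw [Submodule.Quotient.mk_eq_zero, Submodule.mem_smul_top_iff, smul_eq_mul, ← pow_succ']
      exact h1
    let N := Submodule.span (B ⧸ J) {(Submodule.Quotient.mk j : G)}
    haveI := subsingleton_ext_of_killed G hG N (fun P hP hne x => by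
      obtain ⟨t, ht, htj⟩ := hkill P hP hne
      obtain ⟨c, hc⟩ := Submodule.mem_span_singleton.1 x.2
      refine ⟨t, ht, Subtype.ext ?_⟩
      show t • x.1 = 0
      rw [← hc, smul_comm, htj, smul_zero]) 0 (by norm_num)
    have h0 : ModuleCat.ofHom N.subtype = 0 :=
      (CategoryTheory.Abelian.Ext.addEquiv₀ (X := ModuleCat.of (B ⧸ J) N)
        (Y := ModuleCat.of (B ⧸ J) G)).subsingleton_congr.1 inferInstance |>.elim _ _
    exact congrArg (fun f => f.hom ⟨_, Submodule.mem_span_singleton_self _⟩) h0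
  have hex : Function.Exact ι π := by
    intro e
    obtain ⟨e, rfl⟩ := Submodule.Quotient.mk_surjective _ e
    constructor
    · intro h
      rw [hπdef, Submodule.Quotient.mk_eq_zero] at h
      have : p e ∈ Submodule.map p (J • (⊤ : Submodule B E)) := by
        rwa [Submodule.map_smul'', Submodule.map_top, LinearMap.range_eq_top.2 hp]
      obtain ⟨e', he', hpe'⟩ := this
      obtain ⟨b, hb⟩ := Ideal.Quotient.mk_surjective (e - e').1.2
      have h1 : (e - e').1.1 = 0 := by
        show p (e - e') = 0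
        rw [map_sub, hpe', sub_self]
      have hb' : b ∈ J ^ n := by
        have h2 := (e - e').2
        rw [LinearMap.mem_eqLocus] at h2
        simp only [LinearMap.comp_apply, LinearMap.fst_apply, LinearMap.snd_apply, h1, map_zero, ← hb] at h2
        exact Ideal.Quotient.eq_zero_iff_mem.1 h2.symm
      refine ⟨Submodule.Quotient.mk ⟨b, hb'⟩, ?_⟩
      rw [hιdef, Submodule.Quotient.eq,
        show i ⟨b, hb'⟩ = e - e' from Subtype.ext (Prod.ext h1.symm hb)]
      simpa using (J • (⊤ : Submodule B E)).neg_mem he'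
    · rintro ⟨g, hg⟩
      obtain ⟨j, rfl⟩ := Submodule.Quotient.mk_surjective _ g
      rw [← hg, hιdef, hπdef, show p (i j) = 0 from rfl]
      exact (Submodule.Quotient.mk_eq_zero _).2 (zero_mem _)
  have hπ : Function.Surjective π := fun x => by
    obtain ⟨x, rfl⟩ := Submodule.Quotient.mk_surjective _ x
    obtain ⟨e, rfl⟩ := hp x
    exact ⟨_, hπdef e⟩
  obtain ⟨r, hr⟩ := exists_retraction G hG _ ψ₀ (fun P hP hne x hx => by
      obtain ⟨m, s, hs, hm, hψm⟩ := hψ₀ P hP hne
      obtain ⟨k, b, hb⟩ := hm.1 x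
      refine ⟨ψ₀ m * s ^ k, fun h => (hP.mem_or_mem h).elim hψm fun h' => hs (hP.mem_of_pow_mem _ h'), ?_⟩
      have hb0 : b * ψ₀ m = 0 := by
        have := congrArg ψ₀ hb
        rwa [map_smul, map_smul, hx, smul_zero, smul_eq_mul, eq_comm] at this
      rw [mul_smul, hb, smul_smul, mul_comm, hb0, zero_smul])
    (fun P hP hne => by
      obtain ⟨m, _, _, _, hψm⟩ := hψ₀ P hP hne
      exact ⟨m, hψm⟩)
    E₀ ι π hι hπ hex
  let toQ : G →ₗ[B] B ⧸ J ^ (n + 1) :=
    Submodule.liftQ _ ((Ideal.Quotient.mkₐ B (J ^ (n + 1))).toLinearMap.comp (Submodule.subtype (J ^ n)))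
      (fun x hx => by
        rw [Submodule.mem_smul_top_iff, smul_eq_mul, ← pow_succ'] at hx
        exact Ideal.Quotient.eq_zero_iff_mem.2 hx)
  let r' : E →ₗ[B] B ⧸ J ^ (n + 1) :=
    (LinearMap.snd B M (B ⧸ J ^ (n + 1))).comp E.subtype -
      toQ.comp ((r.restrictScalars B).comp (Submodule.mkQ _))
  have hr0 : LinearMap.ker p ≤ LinearMap.ker r' := by
    intro e he
    obtain ⟨b, hb⟩ := Ideal.Quotient.mk_surjective e.1.2
    have h1 : e.1.1 = 0 := he
    have hb' : b ∈ J ^ n := by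
      have h2 := e.2
      rw [LinearMap.mem_eqLocus] at h2
      simp only [LinearMap.comp_apply, LinearMap.fst_apply, LinearMap.snd_apply, h1, map_zero, ← hb] at h2
      exact Ideal.Quotient.eq_zero_iff_mem.1 h2.symm
    have hei : i ⟨b, hb'⟩ = e := Subtype.ext (Prod.ext h1.symm hb)
    rw [LinearMap.mem_ker, ← hei]
    show Ideal.Quotient.mk (J ^ (n + 1)) b - toQ (r (Submodule.Quotient.mk (i ⟨b, hb'⟩))) = 0
    rw [← hιdef, hr]
    exact sub_self _
  let ψ : M →ₗ[B] B ⧸ J ^ (n + 1) :=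
    ((LinearMap.ker p).liftQ r' hr0).comp (p.quotKerEquivOfSurjective hp).symm.toLinearMap
  refine ⟨ψ, fun x => ?_⟩
  obtain ⟨e, rfl⟩ := hp x
  have hψ : ψ (p e) = r' e := by
    show (LinearMap.ker p).liftQ r' hr0 ((p.quotKerEquivOfSurjective hp).symm (p e)) = r' e
    rw [show (p.quotKerEquivOfSurjective hp).symm (p e) = Submodule.Quotient.mk e from
      (LinearEquiv.symm_apply_eq _).2 rfl]
    rfl
  rw [hψ]
  show q (e.1.2 - toQ (r (Submodule.Quotient.mk e))) = φ e.1.1
  rw [map_sub, show φ e.1.1 = q e.1.2 from e.2, sub_eq_self]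
  obtain ⟨j, hj⟩ := Submodule.Quotient.mk_surjective _ (r (Submodule.Quotient.mk e))
  rw [← hj]
  exact Ideal.Quotient.eq_zero_iff_mem.2 j.2

/-- Lifting a functional which trivialises modulo `J`. -/
theorem exists_lift (hd : (3 : ℕ∞) ≤ LocCoh.depth (B ⧸ J) (B ⧸ J))
    (hgr : ∀ n : ℕ, Module.Free (B ⧸ J) (↥(J ^ n) ⧸ (J • (⊤ : Submodule B ↥(J ^ n)))))
    (M : Type u) [AddCommGroup M] [Module B M] [Module.Finite B M] (hM : GenPunct B M)
    (ψ₀ : (M ⧸ J • (⊤ : Submodule B M)) →ₗ[B ⧸ J] B ⧸ J) (hψ₀ : IsTrivPunct (B ⧸ J) ψ₀) :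
    ∃ ψ : M →ₗ[B] B, ∀ x, Ideal.Quotient.mk J (ψ x) = ψ₀ (Submodule.Quotient.mk x) := by
  classical
  let φ₁ : M →ₗ[B] B ⧸ J := (ψ₀.restrictScalars B).comp (Submodule.mkQ _)
  have hn : ∀ n : ℕ, ∃ φ : M →ₗ[B] B ⧸ J ^ (n + 1),
      ∀ x, Ideal.Quotient.factor (Ideal.pow_le_self (Nat.succ_ne_zero n)) (φ x) = φ₁ x := by
    intro n
    induction n with
    | zero =>
      refine ⟨(Ideal.Quotient.factorₐ B (show J ≤ J ^ 1 by rw [pow_one])).toLinearMap.comp φ₁, fun x => ?_⟩
      obtain ⟨b, hb⟩ := Ideal.Quotient.mk_surjective (φ₁ x)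
      simp only [LinearMap.comp_apply, ← hb]
      rfl
    | succ n ih =>
      obtain ⟨φ, hφ⟩ := ih
      haveI := hgr (n + 1)
      obtain ⟨ψ, hψ⟩ := exists_lift_step J hd (n + 1) M hM ψ₀ hψ₀ φ
      refine ⟨ψ, fun x => ?_⟩
      rw [← hφ x, ← hψ x]
      obtain ⟨b, hb⟩ := Ideal.Quotient.mk_surjective (ψ x)
      rw [← hb]
      rfl
  -- the functionals as vectors killed by the relations
  obtain ⟨r, g, hg⟩ := Module.Finite.exists_fin (R := B) (M := M)
  let π : (Fin r → B) →ₗ[B] M := Fintype.linearCombination B g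
  have hπ : Function.Surjective π := fun x => by
    have hx : x ∈ Submodule.span B (Set.range g) := hg ▸ Submodule.mem_top
    exact (Submodule.mem_span_range_iff_exists_fun B).1 hx
  obtain ⟨t, z, hz⟩ := Submodule.fg_iff_exists_fin_generating_family.1
    (IsNoetherian.noetherian (LinearMap.ker π))
  let T : (Fin r → B) →ₗ[B] (Fin t → B) := LinearMap.pi fun i => Fintype.linearCombination B (z i)
  obtain ⟨c, hc⟩ := Ideal.exists_pow_inf_eq_pow_smul J (LinearMap.range T)
  obtain ⟨φ, hφ⟩ := hn (c + 1)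
  choose v hv using fun i => Ideal.Quotient.mk_surjective (φ (g i))
  have hlc : ∀ w : Fin r → B, Ideal.Quotient.mk (J ^ (c + 1 + 1)) (∑ i, w i * v i) = φ (π w) := by
    intro w
    simp only [π, Fintype.linearCombination_apply, map_sum, map_smul, Algebra.smul_def,
      Ideal.Quotient.algebraMap_eq, map_mul, hv]
  have hTv : T v ∈ J ^ (c + 1) • (⊤ : Submodule B (Fin t → B)) ⊓ LinearMap.range T := by
    refine ⟨?_, ⟨v, rfl⟩⟩
    have hcomp : ∀ i, T v i ∈ J ^ (c + 1) := fun i => by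
      refine Ideal.pow_le_pow_right (Nat.le_succ _) (Ideal.Quotient.eq_zero_iff_mem.1 ?_)
      have hT : T v i = ∑ j, z i j * v j := by
        simp only [T, LinearMap.pi_apply, Fintype.linearCombination_apply, smul_eq_mul]
        exact Finset.sum_congr rfl fun j _ => mul_comm _ _
      rw [hT, hlc, show π (z i) = 0 from LinearMap.mem_ker.1 (hz ▸ Submodule.subset_span ⟨i, rfl⟩), map_zero]
    have hsum : T v = ∑ i, T v i • (Pi.single i (1 : B)) := by
      funext i
      simp [Finset.sum_apply, Pi.single_apply]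
    rw [hsum]
    exact Submodule.sum_mem _ fun i _ => Submodule.smul_mem_smul (hcomp i) Submodule.mem_top
  rw [hc (c + 1) (Nat.le_succ c), Nat.add_sub_cancel_left, pow_one] at hTv
  have hTv' : T v ∈ Submodule.map T (J • (⊤ : Submodule B (Fin r → B))) := by
    rw [Submodule.map_smul'', Submodule.map_top]
    exact Submodule.smul_mono le_rfl inf_le_right hTv
  obtain ⟨w, hw, hTw⟩ := hTv'
  have hwJ : ∀ i, w i ∈ J := fun i => by
    have hmap := Submodule.mem_map_of_mem (f := LinearMap.proj (R := B) (φ := fun _ : Fin r => B) i) hw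
    rw [Submodule.map_smul''] at hmap
    have := Submodule.smul_mono (le_refl J) le_top hmap
    rwa [smul_eq_mul, Ideal.mul_top] at this
  let u : Fin r → B := v - w
  have hker : LinearMap.ker π ≤ LinearMap.ker (Fintype.linearCombination B u) := by
    rw [← hz, Submodule.span_le]
    rintro _ ⟨i, rfl⟩
    have h1 : T u i = 0 := by rw [map_sub, hTw, sub_self]; rfl
    simp only [T, LinearMap.pi_apply, Fintype.linearCombination_apply, smul_eq_mul] at h1
    show Fintype.linearCombination B u (z i) = 0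
    rw [Fintype.linearCombination_apply, ← h1]
    exact Finset.sum_congr rfl fun j _ => mul_comm _ _
  let ψ : M →ₗ[B] B := ((LinearMap.ker π).liftQ (Fintype.linearCombination B u) hker).comp
    (π.quotKerEquivOfSurjective hπ).symm.toLinearMap
  refine ⟨ψ, fun x => ?_⟩
  obtain ⟨a, rfl⟩ := hπ x
  have hψ : ψ (π a) = ∑ i, a i * u i := by
    show (LinearMap.ker π).liftQ _ hker ((π.quotKerEquivOfSurjective hπ).symm (π a)) = _
    rw [show (π.quotKerEquivOfSurjective hπ).symm (π a) = Submodule.Quotient.mk a from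
      (LinearEquiv.symm_apply_eq _).2 rfl]
    simp [Fintype.linearCombination_apply]
  show Ideal.Quotient.mk J (ψ (π a)) = φ₁ (π a)
  rw [hψ, ← hφ (π a), ← hlc, Ideal.Quotient.factor_mk, Ideal.Quotient.eq, ← Finset.sum_sub_distrib]
  refine J.sum_mem fun i _ => ?_
  rw [← mul_sub]
  refine J.mul_mem_left _ ?_
  show v i - w i - v i ∈ J
  simpa using J.neg_mem (hwJ i)

/-- The main statement: triviality on the punctured spectrum of `B/J` propagates to `B`. -/
theorem moduleTriv_of_grFree (hd : (3 : ℕ∞) ≤ LocCoh.depth (B ⧸ J) (B ⧸ J))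
    (hgr : ∀ n : ℕ, Module.Free (B ⧸ J) (↥(J ^ n) ⧸ (J • (⊤ : Submodule B ↥(J ^ n)))))
    (M : Type u) [AddCommGroup M] [Module B M] [Module.Finite B M] (hM : GenPunct B M)
    (h₀ : ∃ ψ₀ : (M ⧸ J • (⊤ : Submodule B M)) →ₗ[B ⧸ J] B ⧸ J, IsTrivPunct (B ⧸ J) ψ₀)
    (h₁ : GenPunct B (M →ₗ[B] B) → ∃ g₀ : ((M →ₗ[B] B) ⧸ J • (⊤ : Submodule B (M →ₗ[B] B))) →ₗ[B ⧸ J] B ⧸ J,
      IsTrivPunct (B ⧸ J) g₀) :
    ∃ ψ : M →ₗ[B] B, IsTrivPunct B ψ := by
  obtain ⟨ψ₀, hψ₀⟩ := h₀
  obtain ⟨g₀, hg₀⟩ := h₁ (genPunct_dual hM)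
  obtain ⟨ψ, hψ⟩ := exists_lift J hd hgr M hM ψ₀ hψ₀
  obtain ⟨g, hg⟩ := exists_lift J hd hgr (M →ₗ[B] B) (genPunct_dual hM) g₀ hg₀
  have hJ : J ≠ ⊤ := fun h => by
    haveI : Subsingleton (B ⧸ J) := Ideal.Quotient.subsingleton_iff.2 h
    exact false_of_nontrivial_of_subsingleton (B ⧸ J)
  have hu : IsUnit (g ψ) := by
    have h0 : IsUnit (Ideal.Quotient.mk J (g ψ)) := by
      refine isUnit_of_forall_notMem (le_trans (by norm_num) hd) fun P hP hne hmem => ?_
      let P' : Ideal B := P.comap (Ideal.Quotient.mk J)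
      have hP' : P'.IsPrime := inferInstance
      have hP'ne : P' ≠ maximalIdeal B := comap_ne_maximal J hne
      obtain ⟨m, s, hs, hm⟩ := hM P' inferInstance hP'ne
      obtain ⟨φ, k, hφm, hφ⟩ := exists_genAt_dual hm
      obtain ⟨m', s', hs', hm', hψm'⟩ := hψ₀ P hP hne
      obtain ⟨x, rfl⟩ := Submodule.Quotient.mk_surjective _ m'
      have hψx : ψ x ∉ P' := by
        show Ideal.Quotient.mk J (ψ x) ∉ P
        rwa [hψ]
      obtain ⟨l, c, hc⟩ := hφ.1 ψ
      have hcP : c ∉ P' := fun hc' => by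
        have h1 := LinearMap.congr_fun hc x
        simp only [LinearMap.smul_apply, smul_eq_mul] at h1
        exact (hP'.mem_or_mem (h1.symm ▸ P'.mul_mem_right _ hc')).elim
          (fun h => hs (hP'.mem_of_pow_mem _ h)) hψx
      obtain ⟨F, s'', hs'', hF, hgF⟩ := hg₀ P hP hne
      obtain ⟨f, rfl⟩ := Submodule.Quotient.mk_surjective _ F
      have hgφ : g φ ∉ P' := fun hgφ' => by
        obtain ⟨i, d, hd'⟩ := hφ.1 f
        have h1 := congrArg g hd'
        simp only [map_smul, smul_eq_mul] at h1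
        refine (hP'.mem_or_mem (h1.symm ▸ P'.mul_mem_left _ hgφ')).elim
          (fun h => hs (hP'.mem_of_pow_mem _ h)) fun h => hgF ?_
        show g₀ (Submodule.Quotient.mk f) ∈ P
        rw [← hg]
        exact h
      have h2 := congrArg g hc
      simp only [map_smul, smul_eq_mul] at h2
      have h3 : c * g φ ∈ P' := h2 ▸ P'.mul_mem_left _ (show g ψ ∈ P' from hmem)
      exact (hP'.mem_or_mem h3).elim hcP hgφ
    by_contra hnu
    have h1 := Ideal.mem_map_of_mem (Ideal.Quotient.mk J) ((IsLocalRing.mem_maximalIdeal _).2 hnu)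
    have htop : (maximalIdeal B).map (Ideal.Quotient.mk J) = ⊤ := Ideal.eq_top_of_isUnit_mem _ h1 h0
    have := congrArg (Ideal.comap (Ideal.Quotient.mk J)) htop
    rw [Ideal.comap_map_of_surjective _ Ideal.Quotient.mk_surjective, Ideal.comap_top,
      ← RingHom.ker_eq_comap_bot, Ideal.mk_ker, sup_eq_left.2 (IsLocalRing.le_maximalIdeal hJ)] at this
    exact (maximalIdeal.isMaximal B).ne_top this
  refine ⟨ψ, fun P hP hne => ?_⟩
  obtain ⟨m, s, hs, hm⟩ := hM P hP hne
  obtain ⟨φ, k, hφm, hφ⟩ := exists_genAt_dual hm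
  obtain ⟨l, c, hc⟩ := hφ.1 ψ
  refine ⟨m, s, hs, hm, fun hψm => ?_⟩
  have h1 := LinearMap.congr_fun hc m
  simp only [LinearMap.smul_apply, smul_eq_mul, hφm] at h1
  have hcP : c ∈ P := (hP.mem_or_mem (h1 ▸ P.mul_mem_left _ hψm)).elim id
    fun h => absurd (hP.mem_of_pow_mem _ h) hs
  have h2 := congrArg g hc
  simp only [map_smul, smul_eq_mul] at h2
  exact (hP.mem_or_mem (h2.symm ▸ P.mul_mem_right _ hcP)).elim (fun h => hs (hP.mem_of_pow_mem _ h))
    fun h => hP.ne_top (Ideal.eq_top_of_isUnit_mem _ h hu)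

/-- The depth of `B` is at least that of `B/J` when the graded pieces are free. -/
theorem isSMulRegular_of_grFree (hgr : ∀ n : ℕ, Module.Free (B ⧸ J) (↥(J ^ n) ⧸ (J • (⊤ : Submodule B ↥(J ^ n)))))
    {x : B} (hx : IsSMulRegular (B ⧸ J) (Ideal.Quotient.mk J x)) (hJ : J ≠ ⊤) : IsSMulRegular B x := by
  rw [isSMulRegular_iff_right_eq_zero_of_smul]
  intro b hb
  have hall : ∀ n : ℕ, b ∈ J ^ n := by
    intro n
    induction n with
    | zero => simp
    | succ n ih =>
      haveI := hgr n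
      have h0 : Ideal.Quotient.mk J x • (Submodule.Quotient.mk ⟨b, ih⟩ :
          ↥(J ^ n) ⧸ (J • (⊤ : Submodule B ↥(J ^ n)))) = 0 := by
        show Submodule.Quotient.mk (x • (⟨b, ih⟩ : ↥(J ^ n))) = _
        rw [show x • (⟨b, ih⟩ : ↥(J ^ n)) = 0 from Subtype.ext hb]
        rfl
      have hreg : IsSMulRegular (↥(J ^ n) ⧸ (J • (⊤ : Submodule B ↥(J ^ n)))) (Ideal.Quotient.mk J x) :=
        ((TensorProduct.lid (B ⧸ J) _).isSMulRegular_congr _).1
          (hx.rTensor (↥(J ^ n) ⧸ (J • (⊤ : Submodule B ↥(J ^ n)))))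
      have h1 := hreg.right_eq_zero_of_smul h0
      rwa [Submodule.Quotient.mk_eq_zero, Submodule.mem_smul_top_iff, smul_eq_mul, ← pow_succ'] at h1
  have h2 : b ∈ ⨅ n : ℕ, J ^ n := (Submodule.mem_iInf _).2 hall
  rwa [Ideal.iInf_pow_eq_bot_of_isLocalRing J hJ, Submodule.mem_bot] at h2

end lift

end GrothLib.RamSam
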