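import Groth.Agent.Lib.RamSam.Depth2
import Mathlib.RingTheory.AdicCompletion.RingHom

/-!
# Extending maps from polynomials to power series along a distinguished polynomial
-/

set_option autoImplicit false

universe u

open IsLocalRing

namespace GrothLib.RamSam

variable {A : Type u} [CommRing A] [IsLocalRing A] [IsAdicComplete (maximalIdeal A) A]
  {P : Polynomial A}

theorem isDistinguishedAt_pow (hP : P.IsDistinguishedAt (maximalIdeal A)) :
    ∀ n : ℕ, (P ^ n).IsDistinguishedAt (maximalIdeal A)
  | 0 => by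
    rw [pow_zero]
    exact ⟨⟨fun {i} hi => absurd hi (by simp)⟩, Polynomial.monic_one⟩
  | n + 1 => by rw [pow_succ]; exact (isDistinguishedAt_pow hP n).mul hP

theorem exists_polynomial_sub_mem (hP : P.IsDistinguishedAt (maximalIdeal A)) (b : PowerSeries A) :
    ∃ q : Polynomial A, b - (q : PowerSeries A) ∈ Ideal.span {(P : PowerSeries A)} := by
  obtain ⟨q, hq⟩ := Ideal.Quotient.mk_surjective (hP.algEquivQuotient.symm (Ideal.Quotient.mk _ b))
  refine ⟨q, Ideal.Quotient.eq.1 ?_⟩
  have := congrArg hP.algEquivQuotient hq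
  rw [AlgEquiv.apply_symm_apply, Polynomial.IsDistinguishedAt.algEquivQuotient_apply] at this
  exact this.symm

theorem dvd_of_coe_mem (hP : P.IsDistinguishedAt (maximalIdeal A)) {q : Polynomial A}
    (hq : (q : PowerSeries A) ∈ Ideal.span {(P : PowerSeries A)}) : P ∣ q := by
  rw [← Ideal.mem_span_singleton, ← Ideal.Quotient.eq_zero_iff_mem]
  apply hP.algEquivQuotient.injective
  rw [map_zero, Polynomial.IsDistinguishedAt.algEquivQuotient_apply]
  exact Ideal.Quotient.eq_zero_iff_mem.2 hq

/-- A map to a complete local ring sending `P` to the maximal ideal extends to power series. -/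
theorem exists_extension (hP : P.IsDistinguishedAt (maximalIdeal A)) {D : Type u} [CommRing D]
    [IsLocalRing D] [IsAdicComplete (maximalIdeal D) D] (ev : Polynomial A →+* D)
    (hev : ev P ∈ maximalIdeal D) :
    ∃ Ψ : PowerSeries A →+* D, ∀ q : Polynomial A, Ψ (q : PowerSeries A) = ev q := by
  classical
  have hk : ∀ n : ℕ, Ideal.span {P ^ n} ≤ ((maximalIdeal D) ^ n).comap ev := fun n => by
    rw [Ideal.span_singleton_le_iff_mem, Ideal.mem_comap, map_pow]
    exact Ideal.pow_mem_pow hev n
  let f : ∀ n : ℕ, PowerSeries A →+* D ⧸ (maximalIdeal D) ^ n := fun n =>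
    (Ideal.quotientMap _ ev (hk n)).comp
      (((isDistinguishedAt_pow hP n).algEquivQuotient.symm.toRingEquiv.toRingHom).comp (Ideal.Quotient.mk _))
  have hval : ∀ (n : ℕ) (b : PowerSeries A) (q : Polynomial A),
      b - (q : PowerSeries A) ∈ Ideal.span {((P ^ n : Polynomial A) : PowerSeries A)} →
      f n b = Ideal.Quotient.mk _ (ev q) := by
    intro n b q hq
    have h1 : (isDistinguishedAt_pow hP n).algEquivQuotient.symm (Ideal.Quotient.mk _ b) = Ideal.Quotient.mk _ q := by
      rw [AlgEquiv.symm_apply_eq, Polynomial.IsDistinguishedAt.algEquivQuotient_apply]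
      exact Ideal.Quotient.eq.2 hq
    show Ideal.quotientMap _ ev (hk n) ((isDistinguishedAt_pow hP n).algEquivQuotient.symm (Ideal.Quotient.mk _ b)) = _
    rw [h1]
    rfl
  have hf : ∀ {m n : ℕ} (hle : m ≤ n), (Ideal.Quotient.factorPow (maximalIdeal D) hle).comp (f n) = f m := by
    intro m n hle
    refine RingHom.ext fun b => ?_
    obtain ⟨q, hq⟩ := exists_polynomial_sub_mem (isDistinguishedAt_pow hP n) b
    have hq' : b - (q : PowerSeries A) ∈ Ideal.span {((P ^ m : Polynomial A) : PowerSeries A)} := by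
      refine Ideal.span_singleton_le_span_singleton.2 ?_ hq
      rw [Polynomial.coe_pow, Polynomial.coe_pow]
      exact pow_dvd_pow _ hle
    rw [RingHom.comp_apply, hval n b q hq, hval m b q hq']
    rfl
  refine ⟨IsAdicComplete.liftRingHom (maximalIdeal D) f hf, fun q => ?_⟩
  refine (IsHausdorff.eq_iff_smodEq (I := maximalIdeal D)).2 fun n => ?_
  rw [SModEq.sub_mem, smul_eq_mul, Ideal.mul_top, ← Ideal.Quotient.eq, IsAdicComplete.mk_liftRingHom]
  exact hval n _ q (by simp)

end GrothLib.RamSam
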