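import Groth.Agent.Lib.RamSam.PowerParafactorial
import Groth.Agent.Lib.RamSam.WeierstrassLift
import Groth.Agent.Lib.AdicLim.Finite
import Groth.Agent.Lib.AdicExtra.Completion
import Groth.Agent.Lib.Flatness.Fibre
import Groth.Agent.Lib.UFDPunct.Local
import Groth.Agent.S2821
import Groth.Agent.S2834
import Groth.Agent.S2865
import Mathlib.RingTheory.Flat.TorsionFree
import Mathlib.RingTheory.DiscreteValuationRing.TFAE
import Mathlib.RingTheory.AdicCompletion.LocalRing

/-!
# Localisations of `A[[T]]` at primes containing a distinguished polynomial are parafactorial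
-/

set_option autoImplicit false
set_option linter.style.haveILetI false

universe u

open IsLocalRing

open scoped TensorProduct

namespace GrothLib.RamSam

theorem isAdicComplete_powerSeries_one (R : Type u) [CommRing R] [IsNoetherianRing R] [IsLocalRing R]
    [IsAdicComplete (maximalIdeal R) R] : IsAdicComplete (maximalIdeal (PowerSeries R)) (PowerSeries R) := by
  haveI := HLVT.isAdicComplete_powerSeries R 1
  let e : MvPowerSeries (Fin 1) R ≃+* PowerSeries R :=
    (MvPowerSeries.renameEquiv R (Equiv.equivPUnit (Fin 1))).toRingEquiv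
  have hmap : (maximalIdeal (MvPowerSeries (Fin 1) R)).map e = maximalIdeal (PowerSeries R) :=
    IsLocalRing.eq_maximalIdeal (Ideal.map_isMaximal_of_equiv e)
  rw [← hmap]
  exact (IsAdicComplete.congr_ringEquiv _ e).2 inferInstance

theorem flat_powerSeries (R : Type u) [CommRing R] [IsNoetherianRing R] : Module.Flat R (PowerSeries R) := by
  haveI : Module.Flat (MvPolynomial Unit R) (MvPowerSeries Unit R) :=
    Module.Flat.of_linearEquiv (MvPowerSeries.toAdicCompletionAlgEquiv Unit R).toLinearEquiv
  exact Module.Flat.trans R (MvPolynomial Unit R) (MvPowerSeries Unit R)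

/-- A ring equivalence preserves parafactoriality. -/
theorem isParafactorial_of_ringEquiv {S S' : Type u} [CommRing S] [CommRing S'] [IsLocalRing S] [IsLocalRing S']
    [IsNoetherianRing S] [IsNoetherianRing S'] (e : S ≃+* S') (h : ParaF.IsParafactorialLocalRing S') :
    ParaF.IsParafactorialLocalRing S := by
  letI : Algebra S S' := e.toRingHom.toAlgebra
  haveI : IsLocalHom (algebraMap S S') :=
    IsLocalHom.of_surjective _ e.surjective
  let l : S ≃ₗ[S] S' := LinearEquiv.ofBijective (Algebra.linearMap S S') e.bijective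
  haveI : Module.Flat S S' := Module.Flat.of_linearEquiv l.symm
  refine Groth.Agent.S2865.result S S' ?_ h
  rw [IsLocalRing.map_maximalIdeal_of_surjective (algebraMap S S') e.surjective]
  exact ringKrullDim_eq_zero_of_field (IsLocalRing.ResidueField S')

set_option maxHeartbeats 1000000 in
/-- The main step. -/
theorem isParafactorial_atPrime {A : Type u} [CommRing A] [IsDomain A] [IsNoetherianRing A] [IsLocalRing A]
    [IsIntegrallyClosed A] [IsAdicComplete (maximalIdeal A) A] (q : Ideal (PowerSeries A)) [q.IsPrime]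
    {P : Polynomial A} (hP : P.IsDistinguishedAt (maximalIdeal A)) (hPq : (P : PowerSeries A) ∈ q)
    (hdim : (2 : WithBot ℕ∞) ≤ ringKrullDim (Localization.AtPrime q)) :
    ParaF.IsParafactorialLocalRing (Localization.AtPrime q) := by
  classical
  let p : Ideal A := q.comap PowerSeries.C
  let R := Localization.AtPrime p
  haveI : IsIntegrallyClosed R :=
    isIntegrallyClosed_of_isLocalization R p.primeCompl p.primeCompl_le_nonZeroDivisors
  let S := Localization.AtPrime q
  let q' : Ideal (Polynomial A) := q.comap Polynomial.coeToPowerSeries.ringHom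
  have hq'mem : ∀ f : Polynomial A, f ∈ q' ↔ (f : PowerSeries A) ∈ q := fun f => Iff.rfl
  have hq'C : q'.comap Polynomial.C = p := by
    ext a
    rw [Ideal.mem_comap, hq'mem, Polynomial.coe_C]
    rfl
  -- the fibre of `A_p[T]`
  letI : Algebra (Polynomial A) (Polynomial R) := (Polynomial.mapRingHom (algebraMap A R)).toAlgebra
  haveI hlocP : IsLocalization (Submonoid.map (Polynomial.C (R := A)) p.primeCompl) (Polynomial R) :=
    Polynomial.isLocalization p.primeCompl R
  let J : Ideal (Polynomial R) := q'.map (algebraMap (Polynomial A) (Polynomial R))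
  have hdisj : Disjoint ((Submonoid.map (Polynomial.C (R := A)) p.primeCompl : Submonoid (Polynomial A)) : Set _)
      (q' : Set (Polynomial A)) := by
    refine Set.disjoint_left.2 ?_
    rintro _ ⟨a, ha, rfl⟩ hmem
    exact ha (hq'C ▸ Ideal.mem_comap.2 hmem)
  haveI hJprime : J.IsPrime := IsLocalization.isPrime_of_isPrime_disjoint _ _ q' inferInstance hdisj
  have hJcomap : J.comap (algebraMap (Polynomial A) (Polynomial R)) = q' :=
    IsLocalization.comap_map_of_isPrime_disjoint _ _ inferInstance hdisj
  let π : Polynomial R →+* Polynomial (ResidueField R) := Polynomial.mapRingHom (residue R)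
  have hπ : Function.Surjective π := Polynomial.map_surjective _ residue_surjective
  have hmJ : (maximalIdeal R).map Polynomial.C ≤ J := by
    rw [← IsLocalization.AtPrime.map_eq_maximalIdeal p R, Ideal.map_map, Ideal.map_le_iff_le_comap]
    intro a ha
    have ha' : Polynomial.C a ∈ q' := by
      rw [hq'mem, Polynomial.coe_C]; exact ha
    rw [Ideal.mem_comap, RingHom.comp_apply, ← Polynomial.map_C]
    exact Ideal.mem_map_of_mem _ ha'
  have hker : RingHom.ker π ≤ J := fun f hf => hmJ (Ideal.mem_map_C_iff.2 fun i => by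
    rw [← residue_eq_zero_iff, ← Polynomial.coeff_map]
    exact (congrArg (fun w => Polynomial.coeff w i) (RingHom.mem_ker.1 hf)).trans (Polynomial.coeff_zero i))
  haveI hJbar : (J.map π).IsPrime := Ideal.map_isPrime_of_surjective hπ hker
  obtain ⟨gb, hgb⟩ := (IsPrincipalIdealRing.principal (J.map π)).principal
  have hPJ : P.map (algebraMap A R) ∈ J := Ideal.mem_map_of_mem _ hPq
  have hgb0 : gb ≠ 0 := by
    rintro rfl
    have hπP := Ideal.mem_map_of_mem π hPJ
    rw [hgb, Submodule.span_zero_singleton, Submodule.mem_bot] at hπP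
    exact ((hP.monic.map (algebraMap A R)).map (residue R)).ne_zero hπP
  let g := normalize gb
  have hg : g.Monic := Polynomial.monic_normalize hgb0
  have hJg : J.map π = Ideal.span {g} := by
    rw [hgb]
    exact Ideal.span_singleton_eq_span_singleton.2 (normalize_associated gb).symm
  obtain ⟨h, hhmap, -, hh⟩ := Polynomial.lifts_and_degree_eq_and_monic (p := g)
    ((Polynomial.lifts_iff_coeff_lifts _).2 fun i => residue_surjective _) hg
  have hhg : π h = g := hhmap
  have hhJ : h ∈ J := by
    obtain ⟨j, hj, hjg⟩ := (Ideal.mem_map_iff_of_surjective π hπ).1 (hJg ▸ Ideal.mem_span_singleton_self g)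
    have : h - j ∈ J := hker (RingHom.mem_ker.2 (by rw [map_sub, hjg, hhg, sub_self]))
    simpa using J.add_mem this hj
  have hJeq : J = (maximalIdeal R).map Polynomial.C ⊔ Ideal.span {h} := by
    refine le_antisymm (fun f hf => ?_) (sup_le hmJ ((Ideal.span_singleton_le_iff_mem J).2 hhJ))
    obtain ⟨w, hw⟩ := Ideal.mem_span_singleton.1 (hJg ▸ Ideal.mem_map_of_mem π hf)
    obtain ⟨w, rfl⟩ := hπ w
    refine Submodule.mem_sup.2 ⟨f - h * w, Ideal.mem_map_C_iff.2 fun i => ?_, h * w,
      Ideal.mul_mem_right _ _ (Ideal.mem_span_singleton_self h), sub_add_cancel _ _⟩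
    rw [← residue_eq_zero_iff, ← Polynomial.coeff_map]
    have : π (f - h * w) = 0 := by rw [map_sub, map_mul, hw, hhg, sub_self]
    exact (congrArg (fun z => Polynomial.coeff z i) this).trans (Polynomial.coeff_zero i)
  have hJmax : J.IsMaximal := by
    haveI : (J.map π).IsMaximal := hJbar.isMaximal (by rw [hJg, ne_eq, Ideal.span_singleton_eq_bot]; exact hg.ne_zero)
    rw [← sup_eq_left.2 hker, RingHom.ker_eq_comap_bot, ← Ideal.comap_map_of_surjective π hπ]
    exact Ideal.comap_isMaximal_of_surjective π hπ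
  -- `B_q` over `A_p`
  letI algR : Algebra R S := (IsLocalization.lift (M := p.primeCompl)
    (g := (algebraMap (PowerSeries A) S).comp PowerSeries.C)
    (fun a : p.primeCompl => IsLocalization.map_units S (⟨PowerSeries.C (a : A), a.2⟩ : q.primeCompl))).toAlgebra
  have hRS : ∀ a : A, algebraMap R S (algebraMap A R a) = algebraMap (PowerSeries A) S (PowerSeries.C a) :=
    fun a => IsLocalization.lift_eq _ a
  let ι : Polynomial R →+* S :=
    Polynomial.eval₂RingHom (algebraMap R S) (algebraMap (PowerSeries A) S PowerSeries.X)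
  have hι : ∀ f : Polynomial A, ι (f.map (algebraMap A R)) = algebraMap (PowerSeries A) S (f : PowerSeries A) := by
    have : ι.comp (Polynomial.mapRingHom (algebraMap A R)) =
        (algebraMap (PowerSeries A) S).comp Polynomial.coeToPowerSeries.ringHom := by
      refine Polynomial.ringHom_ext (fun a => ?_) ?_
      · simp [ι, hRS]
      · simp [ι]
    exact fun f => RingHom.congr_fun this f
  have hmaxS : maximalIdeal S = (maximalIdeal R).map (algebraMap R S) ⊔ Ideal.span {ι h} := by
    have h1 : J.map ι = (maximalIdeal R).map (algebraMap R S) ⊔ Ideal.span {ι h} := by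
      rw [hJeq, Ideal.map_sup, Ideal.map_map, Ideal.map_span, Set.image_singleton]
      congr 2
      exact RingHom.ext fun r => by simp [ι]
    rw [← h1, ← IsLocalization.AtPrime.map_eq_maximalIdeal q S]
    refine le_antisymm (Ideal.map_le_iff_le_comap.2 fun b hb => ?_) ?_
    · obtain ⟨f, hf⟩ := exists_polynomial_sub_mem hP b
      have hfq : f ∈ q' := (hq'mem f).2 (by
        have := q.sub_mem hb ((Ideal.span_singleton_le_iff_mem q).2 hPq hf)
        rwa [sub_sub_cancel] at this)
      obtain ⟨c, hc⟩ := Ideal.mem_span_singleton'.1 hf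
      rw [Ideal.mem_comap, show b = (f : PowerSeries A) + c * P by rw [hc]; ring, map_add, map_mul,
        ← hι, ← hι]
      exact add_mem (Ideal.mem_map_of_mem ι (Ideal.mem_map_of_mem _ hfq))
        (Ideal.mul_mem_left _ _ (Ideal.mem_map_of_mem ι hPJ))
    · rw [Ideal.map_map, Ideal.map_le_iff_le_comap]
      intro f hf
      rw [Ideal.mem_comap, RingHom.comp_apply, RingHom.algebraMap_toAlgebra, Polynomial.coe_mapRingHom, hι]
      exact Ideal.mem_map_of_mem _ hf
  by_cases hR : (2 : WithBot ℕ∞) ≤ ringKrullDim R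
  swap
  · -- the base is regular of dimension at most one
    have h4 : IsIntegrallyClosed R ∧ ∀ Q : Ideal R, Q ≠ ⊥ → Q.IsPrime → Q = maximalIdeal R := by
      refine ⟨inferInstance, fun Q hQ hQp => ?_⟩
      by_contra hne
      refine hR ?_
      have h1 : (⊥ : Ideal R) < Q := bot_lt_iff_ne_bot.2 hQ
      have h2 : Q < maximalIdeal R := lt_of_le_of_ne (le_maximalIdeal hQp.ne_top) hne
      have e1 : 1 ≤ Q.height := (Order.add_one_le_of_lt (Ideal.height_strict_mono_of_isPrime h1)).trans' (by simp)
      have e2 : 2 ≤ (maximalIdeal R).height := by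
        refine le_trans ?_ (Order.add_one_le_of_lt (Ideal.height_strict_mono_of_isPrime h2))
        calc (2 : ℕ∞) = 1 + 1 := by norm_num
          _ ≤ Q.height + 1 := by gcongr
      rw [← maximalIdeal_height_eq_ringKrullDim]
      exact WithBot.coe_le_coe.2 e2
    have hpr : (maximalIdeal R).IsPrincipal := ((tfae_of_isNoetherianRing_of_isLocalRing_of_isDomain R).out 3 4).1 h4
    obtain ⟨t, ht⟩ := hpr.principal
    haveI : IsRegularLocalRing S := by
      refine IsRegularLocalRing.of_spanFinrank_maximalIdeal_le S (le_trans ?_ hdim)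
      have hm : maximalIdeal S = Submodule.span S {algebraMap R S t, ι h} := by
        rw [hmaxS, ht, Ideal.submodule_span_eq, Ideal.map_span, Set.image_singleton, ← Ideal.span_union,
          Set.singleton_union]
      rw [hm]
      have hle := Submodule.spanFinrank_span_le_ncard_of_finite (R := S)
        (s := ({algebraMap R S t, ι h} : Set S)) (Set.toFinite _)
      have h2 : ({algebraMap R S t, ι h} : Set S).ncard ≤ 2 := (Set.ncard_insert_le _ _).trans (by simp)
      exact_mod_cast hle.trans h2
    obtain ⟨_, hU⟩ := Groth.Agent.S2821.result S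
    exact Groth.Agent.S2834.result S hU hdim
  -- depth two: pass to a power series ring
  have hdepR : (2 : ℕ∞) ≤ LocCoh.depth R R := UFDPunct.depth_two hR
  let C := AdicCompletion (maximalIdeal R) R
  let hC : Polynomial C := h.map (algebraMap R C)
  have hhC : hC.Monic := hh.map _
  let R₁ := AdjoinRoot hC
  haveI : Module.Finite C R₁ := hhC.finite_adjoinRoot
  haveI : Module.Free C R₁ := hhC.free_adjoinRoot
  haveI : IsNoetherianRing R₁ := IsNoetherianRing.of_finite C R₁
  haveI : Module.Flat R R₁ := Module.Flat.trans R C R₁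
  let θ : R₁ := AdjoinRoot.root hC
  have hθ : h.eval₂ (algebraMap R R₁) θ = 0 := by
    have h0 := AdjoinRoot.eval₂_root hC
    rw [Polynomial.eval₂_map] at h0
    rw [IsScalarTower.algebraMap_eq R C R₁]
    exact h0
  -- `R₁` is local
  have hsurjC : ∀ x : C, ∃ r : R, x - algebraMap R C r ∈ maximalIdeal C := fun x => by
    obtain ⟨r, hr⟩ := Ideal.Quotient.mk_surjective (AdicCompletion.evalOneₐ (maximalIdeal R) x)
    refine ⟨r, fun hu => ?_⟩
    have h1 := hu.map (AdicCompletion.evalOneₐ (maximalIdeal R))
    rw [map_sub, AlgHom.commutes, show algebraMap R (R ⧸ maximalIdeal R) r = Ideal.Quotient.mk _ r from rfl, hr,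
      sub_self] at h1
    exact not_isUnit_zero h1
  let N : Ideal R₁ := (maximalIdeal C).map (algebraMap C R₁)
  have hNle : ∀ M : Ideal R₁, M.IsMaximal → N ≤ M := fun M hM => by
    haveI := hM
    haveI : (M.comap (algebraMap C R₁)).IsMaximal := Ideal.isMaximal_comap_of_isIntegral_of_isMaximal M
    exact Ideal.map_le_iff_le_comap.2 (IsLocalRing.eq_maximalIdeal this).ge
  have hg0 : g ≠ 1 := fun h1 => hJbar.ne_top (by rw [hJg, h1, Ideal.span_singleton_one])
  have hhd : h.natDegree ≠ 0 := by
    rw [← hh.natDegree_map (residue R), show h.map (residue R) = g from hhg]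
    exact fun h0 => hg0 (hg.natDegree_eq_zero.1 h0)
  haveI : Nontrivial R₁ := by
    rcases subsingleton_or_nontrivial R₁ with hs | hn
    · exfalso
      have h1 : hC ∣ 1 := AdjoinRoot.mk_eq_zero.1 (Subsingleton.elim (AdjoinRoot.mk hC 1) 0)
      exact hhd (by rw [← hh.natDegree_map (algebraMap R C),
        show h.map (algebraMap R C) = hC from rfl, hhC.eq_one_of_isUnit (isUnit_of_dvd_one h1), Polynomial.natDegree_one])
    · exact hn
  have hNtop : N ≠ ⊤ := fun hN => by
    obtain ⟨M, hM⟩ := Ideal.exists_maximal R₁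
    exact hM.ne_top (top_le_iff.1 (hN ▸ hNle M hM))
  have hNmax : N.IsMaximal := by
    let φ : Polynomial R →+* R₁ ⧸ N :=
      (Ideal.Quotient.mk N).comp (Polynomial.eval₂RingHom (algebraMap R R₁) θ)
    have hφ : Function.Surjective φ := by
      intro z
      obtain ⟨z, rfl⟩ := Ideal.Quotient.mk_surjective z
      obtain ⟨f, rfl⟩ := AdjoinRoot.mk_surjective z
      choose r hr using fun i => hsurjC (f.coeff i)
      refine ⟨∑ i ∈ f.support, Polynomial.monomial i (r i), ?_⟩
      rw [← AdjoinRoot.aeval_eq, Polynomial.aeval_eq_sum_range' (n := f.natDegree + 1) (Nat.lt_succ_self _),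
        map_sum, map_sum]
      rw [← Finset.sum_subset (Polynomial.supp_subset_range (Nat.lt_succ_self f.natDegree)) (fun i _ hi => by
        rw [Polynomial.notMem_support_iff.1 hi, zero_smul, map_zero])]
      refine Finset.sum_congr rfl fun i _ => ?_
      rw [RingHom.comp_apply, Polynomial.coe_eval₂RingHom, Polynomial.eval₂_monomial, Ideal.Quotient.eq,
        Algebra.smul_def, IsScalarTower.algebraMap_apply R C R₁, ← sub_mul, ← map_sub]
      refine Ideal.mul_mem_right _ _ (Ideal.mem_map_of_mem _ ?_)
      rw [← neg_sub]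
      exact neg_mem (hr i)
    have hJker : J ≤ RingHom.ker φ := by
      rw [hJeq]
      refine sup_le (Ideal.map_le_iff_le_comap.2 fun a ha => ?_) ((Ideal.span_singleton_le_iff_mem _).2 ?_)
      · rw [Ideal.mem_comap, RingHom.mem_ker, RingHom.comp_apply, Polynomial.coe_eval₂RingHom, Polynomial.eval₂_C,
          Ideal.Quotient.eq_zero_iff_mem, IsScalarTower.algebraMap_apply R C R₁]
        exact Ideal.mem_map_of_mem _ (by
          rw [AdicCompletion.maximalIdeal_eq_map]; exact Ideal.mem_map_of_mem _ ha)
      · rw [RingHom.mem_ker, RingHom.comp_apply, Polynomial.coe_eval₂RingHom, hθ, map_zero]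
    haveI : Nontrivial (R₁ ⧸ N) := Ideal.Quotient.nontrivial_iff.2 hNtop
    have hkm : (RingHom.ker φ).IsMaximal := (hJmax.eq_of_le (RingHom.ker_ne_top φ) hJker) ▸ hJmax
    exact Ideal.Quotient.maximal_of_isField N
      ((RingHom.quotientKerEquivOfSurjective hφ).symm.toMulEquiv.isField
        ((Ideal.Quotient.maximal_ideal_iff_isField_quotient _).1 hkm))
  haveI : IsLocalRing R₁ := IsLocalRing.of_unique_max_ideal
    ⟨N, hNmax, fun M hM => (hNmax.eq_of_le hM.ne_top (hNle M hM)).symm⟩
  have hN : maximalIdeal R₁ = N := (IsLocalRing.eq_maximalIdeal hNmax).symm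
  haveI : IsAdicComplete (maximalIdeal R₁) R₁ := by
    haveI := AdicLim.isAdicComplete_of_finite (maximalIdeal C) R₁
    rw [hN]
    exact (IsAdicComplete.map_algebraMap_iff (maximalIdeal C) (S := R₁) R₁).2 inferInstance
  have hmR₁ : ∀ a ∈ maximalIdeal R, algebraMap R R₁ a ∈ maximalIdeal R₁ := fun a ha => by
    rw [hN, IsScalarTower.algebraMap_apply R C R₁]
    exact Ideal.mem_map_of_mem _ (by rw [AdicCompletion.maximalIdeal_eq_map]; exact Ideal.mem_map_of_mem _ ha)
  have hdep : (2 : ℕ∞) ≤ LocCoh.depth R₁ R₁ := by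
    have hne : maximalIdeal R • (⊤ : Submodule R R) ≠ ⊤ := by
      rw [smul_eq_mul, Ideal.mul_top]; exact (maximalIdeal.isMaximal R).ne_top
    obtain ⟨rs, hlen, hmem, hreg⟩ := (Depth.le_idealDepth_iff_exists (maximalIdeal R) hne 2).1 hdepR
    exact ParaDual.le_depth_of_regular (rs.map (algebraMap R R₁)) 2 (by simp [hlen])
      (fun r hr => by
        obtain ⟨a, ha, rfl⟩ := List.mem_map.1 hr
        exact hmR₁ a (hmem a ha))
      hreg.of_flat
  let D := PowerSeries R₁
  have hD : ParaF.IsParafactorialLocalRing D := isParafactorial_powerSeries R₁ hdep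
  haveI : IsAdicComplete (maximalIdeal D) D := isAdicComplete_powerSeries_one R₁
  let c : R →+* D := (PowerSeries.C (R := R₁)).comp (algebraMap R R₁)
  let ev : Polynomial R →+* D := Polynomial.eval₂RingHom c (PowerSeries.C θ + PowerSeries.X)
  have hmaxD : ∀ z : D, z ∈ maximalIdeal D ↔ PowerSeries.constantCoeff z ∈ maximalIdeal R₁ := fun z => by
    rw [IsLocalRing.mem_maximalIdeal, IsLocalRing.mem_maximalIdeal, mem_nonunits_iff, mem_nonunits_iff,
      PowerSeries.isUnit_iff_constantCoeff]
  have hev0 : ∀ f : Polynomial R, PowerSeries.constantCoeff (ev f) = f.eval₂ (algebraMap R R₁) θ := by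
    intro f
    have : (PowerSeries.constantCoeff (R := R₁)).comp ev = Polynomial.eval₂RingHom (algebraMap R R₁) θ :=
      Polynomial.ringHom_ext (fun a => by simp [ev, c]) (by simp [ev])
    exact RingHom.congr_fun this f
  have hJev : J ≤ (maximalIdeal D).comap ev := by
    rw [hJeq]
    refine sup_le (Ideal.map_le_iff_le_comap.2 fun a ha => ?_) ((Ideal.span_singleton_le_iff_mem _).2 ?_)
    · rw [Ideal.mem_comap, Ideal.mem_comap, hmaxD, hev0, Polynomial.eval₂_C]
      exact hmR₁ a ha
    · rw [Ideal.mem_comap, hmaxD, hev0, hθ]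
      exact zero_mem _
  have hJev' : (maximalIdeal D).comap ev = J :=
    (hJmax.eq_of_le (Ideal.IsPrime.ne_top inferInstance) hJev).symm
  obtain ⟨Ψ, hΨ⟩ := exists_extension hP (ev.comp (algebraMap (Polynomial A) (Polynomial R))) (hJev hPJ)
  have hΨq : (maximalIdeal D).comap Ψ = q := by
    ext b
    obtain ⟨f, hf⟩ := exists_polynomial_sub_mem hP b
    have hPΨ : Ψ P ∈ maximalIdeal D := by rw [hΨ]; exact hJev hPJ
    have h1 : Ψ (b - f) ∈ maximalIdeal D :=
      (Ideal.span_singleton_le_iff_mem ((maximalIdeal D).comap Ψ)).2 hPΨ hf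
    have h2 : b - f ∈ q := (Ideal.span_singleton_le_iff_mem q).2 hPq hf
    rw [Ideal.mem_comap, show b = (b - f) + f by ring, map_add, Submodule.add_mem_iff_right _ h1,
      Submodule.add_mem_iff_right _ h2, hΨ, ← hq'mem, ← hJcomap, Ideal.mem_comap, ← hJev', Ideal.mem_comap]
    rfl
  have hunit : ∀ b : q.primeCompl, IsUnit (Ψ b) := fun b => by
    by_contra hb
    exact b.2 (hΨq.le (Ideal.mem_comap.2 hb))
  letI algSD : Algebra S D := (IsLocalization.lift (M := q.primeCompl) (g := Ψ) hunit).toAlgebra
  have hSD : ∀ b, algebraMap S D (algebraMap (PowerSeries A) S b) = Ψ b := fun b => IsLocalization.lift_eq _ b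
  have hcD : algebraMap R D = c := RingHom.ext fun r => PowerSeries.algebraMap_apply
  haveI : IsScalarTower R S D := IsScalarTower.of_algebraMap_eq' (IsLocalization.ringHom_ext p.primeCompl
    (RingHom.ext fun a => by
      show algebraMap R D (algebraMap A R a) = algebraMap S D (algebraMap R S (algebraMap A R a))
      rw [hcD, hRS, hSD, show (PowerSeries.C a : PowerSeries A) = ((Polynomial.C a : Polynomial A) : PowerSeries A)
        from (Polynomial.coe_C a).symm, hΨ]
      simp [ev, RingHom.algebraMap_toAlgebra]))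
  have hιev : (algebraMap S D).comp ι = ev := by
    refine Polynomial.ringHom_ext (fun r => ?_) ?_
    · show algebraMap S D (ι (Polynomial.C r)) = ev (Polynomial.C r)
      simp only [ι, ev, Polynomial.coe_eval₂RingHom, Polynomial.eval₂_C]
      rw [← hcD]
      exact (IsScalarTower.algebraMap_apply R S D r).symm
    · show algebraMap S D (ι Polynomial.X) = ev Polynomial.X
      simp only [ι, Polynomial.coe_eval₂RingHom, Polynomial.eval₂_X]
      rw [hSD, show (PowerSeries.X : PowerSeries A) = ((Polynomial.X : Polynomial A) : PowerSeries A)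
        from Polynomial.coe_X.symm, hΨ]
      simp [RingHom.algebraMap_toAlgebra]
  haveI : IsLocalHom (algebraMap S D) := ((IsLocalRing.local_hom_TFAE _).out 0 3).2 (by
    rw [hmaxS]
    refine sup_le (Ideal.map_le_iff_le_comap.2 fun a ha => ?_) ((Ideal.span_singleton_le_iff_mem _).2 ?_)
    · rw [Ideal.mem_comap, Ideal.mem_comap, ← IsScalarTower.algebraMap_apply R S D, hmaxD]
      rw [hcD]
      simp only [c, RingHom.comp_apply, PowerSeries.constantCoeff_C]
      exact hmR₁ a ha
    · show ((algebraMap S D).comp ι) h ∈ maximalIdeal D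
      rw [hιev]
      exact hJev hhJ)
  haveI : IsLocalHom (algebraMap R S) := ((IsLocalRing.local_hom_TFAE _).out 0 3).2 (by
    intro a ha
    rw [Ideal.mem_comap, hmaxS]
    exact Submodule.mem_sup_left (Ideal.mem_map_of_mem _ ha))
  haveI : Module.Flat R₁ D := flat_powerSeries R₁
  haveI : Module.Flat R D := Module.Flat.trans R R₁ D
  -- the closed fibre
  let I : Ideal S := (maximalIdeal R).map (algebraMap R S)
  have hI : I = ((p.map PowerSeries.C).map (algebraMap (PowerSeries A) S)) := by
    show (maximalIdeal R).map (algebraMap R S) = _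
    rw [← IsLocalization.AtPrime.map_eq_maximalIdeal p R, Ideal.map_map, Ideal.map_map]
    congr 1
    exact RingHom.ext fun a => hRS a
  haveI hIp : I.IsPrime := by
    rw [hI]
    haveI := isPrime_map_C p
    exact IsLocalization.isPrime_of_isPrime_disjoint q.primeCompl S _ inferInstance
      (Set.disjoint_left.2 fun b hb hb' => hb ((Ideal.map_le_iff_le_comap.2 le_rfl : p.map PowerSeries.C ≤ q) hb'))
  have hID : I.map (algebraMap S D) = (maximalIdeal R₁).map PowerSeries.C := by
    have hNR : maximalIdeal R₁ = (maximalIdeal R).map (algebraMap R R₁) := by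
      rw [hN, IsScalarTower.algebraMap_eq R C R₁, ← Ideal.map_map, ← AdicCompletion.maximalIdeal_eq_map]
    rw [hNR, Ideal.map_map, Ideal.map_map]
    congr 1
    exact ((IsScalarTower.algebraMap_eq R S D).symm).trans hcD
  haveI hIDp : ((maximalIdeal R₁).map (PowerSeries.C : R₁ →+* D)).IsPrime := isPrime_map_C _
  have hev_h : ev h ∉ (maximalIdeal R₁).map (PowerSeries.C : R₁ →+* D) := by
    intro hmem
    have he : ev h = (((h.map (algebraMap R R₁)).comp (Polynomial.X + Polynomial.C θ) : Polynomial R₁) : D) := by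
      have : ev = (Polynomial.coeToPowerSeries.ringHom).comp
          ((Polynomial.compRingHom (Polynomial.X + Polynomial.C θ)).comp (Polynomial.mapRingHom (algebraMap R R₁))) :=
        Polynomial.ringHom_ext (fun a => by simp [ev, c]) (by simp [ev, add_comm])
      exact RingHom.congr_fun this h
    have hmon : ((h.map (algebraMap R R₁)).comp (Polynomial.X + Polynomial.C θ)).Monic :=
      (hh.map _).comp (Polynomial.monic_X_add_C θ) (by simp)
    have h1 := coeff_mem_map_C hmem ((h.map (algebraMap R R₁)).comp (Polynomial.X + Polynomial.C θ)).natDegree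
    rw [he, Polynomial.coeff_coe, hmon.coeff_natDegree] at h1
    exact (maximalIdeal.isMaximal R₁).ne_top ((Ideal.eq_top_iff_one _).2 h1)
  have hflat : Module.Flat (S ⧸ I) ((S ⧸ I) ⊗[S] D) := by
    haveI : IsDomain (S ⧸ I) := Ideal.Quotient.isDomain I
    haveI : IsLocalRing (S ⧸ I) := IsLocalRing.of_surjective' (Ideal.Quotient.mk I) Ideal.Quotient.mk_surjective
    have hpr : (maximalIdeal (S ⧸ I)).IsPrincipal := ⟨⟨Ideal.Quotient.mk I (ι h), by
      rw [← IsLocalRing.map_maximalIdeal_of_surjective _ Ideal.Quotient.mk_surjective, hmaxS, Ideal.map_sup,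
        Ideal.map_quotient_self, bot_sup_eq, Ideal.map_span, Set.image_singleton]⟩⟩
    haveI : IsPrincipalIdealRing (S ⧸ I) :=
      ((tfae_of_isNoetherianRing_of_isLocalRing_of_isDomain (S ⧸ I)).out 4 0).1 hpr
    refine (IsDedekindDomain.flat_iff_torsion_eq_bot (R := S ⧸ I)).2 (eq_bot_iff.2 ?_)
    intro z hz
    obtain ⟨⟨a, ha⟩, haz⟩ := (Submodule.mem_torsion_iff z).1 hz
    obtain ⟨d, rfl⟩ : ∃ d : D, (1 : S ⧸ I) ⊗ₜ[S] d = z := TensorProduct.mk_surjective S D (S ⧸ I)
      Ideal.Quotient.mk_surjective z
    obtain ⟨a, rfl⟩ := Ideal.Quotient.mk_surjective a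
    let e := TensorProduct.quotTensorEquivQuotSMul D I
    have haI : a ∉ I := fun h' => nonZeroDivisors.ne_zero ha (Ideal.Quotient.eq_zero_iff_mem.2 h')
    have hmem : algebraMap S D a * d ∈ I.map (algebraMap S D) := by
      have h0 : (Ideal.Quotient.mk I a) • ((1 : S ⧸ I) ⊗ₜ[S] d) = 0 := haz
      rw [TensorProduct.smul_tmul', smul_eq_mul, mul_one, show Ideal.Quotient.mk I a = a • (1 : S ⧸ I) from
        Algebra.algebraMap_eq_smul_one a, TensorProduct.smul_tmul] at h0
      have h1 := congrArg e h0
      rw [map_zero, TensorProduct.quotTensorEquivQuotSMul_mk_one_tmul, Submodule.Quotient.mk_eq_zero] at h1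
      rw [← Submodule.restrictScalars_mem S, ← Ideal.smul_top_eq_map, ← Algebra.smul_def]
      exact h1
    have hna : algebraMap S D a ∉ I.map (algebraMap S D) := by
      intro h'
      have hprime : (I.map (algebraMap S D)).IsPrime := hID ▸ hIDp
      have hle : I ≤ (I.map (algebraMap S D)).comap (algebraMap S D) := Ideal.le_comap_map
      have hc : ((I.map (algebraMap S D)).comap (algebraMap S D)).IsPrime := Ideal.IsPrime.comap _
      have hne : ¬ ((I.map (algebraMap S D)).comap (algebraMap S D)).map (Ideal.Quotient.mk I) =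
          maximalIdeal (S ⧸ I) := by
        intro heq
        have h2 : ι h ∈ ((I.map (algebraMap S D)).comap (algebraMap S D)) := by
          have h3 : Ideal.Quotient.mk I (ι h) ∈ maximalIdeal (S ⧸ I) := by
            rw [← IsLocalRing.map_maximalIdeal_of_surjective _ Ideal.Quotient.mk_surjective]
            exact Ideal.mem_map_of_mem _ (hmaxS ▸ Submodule.mem_sup_right (Ideal.mem_span_singleton_self _))
          rw [← heq] at h3
          rwa [Ideal.mem_quotient_iff_mem hle] at h3
        rw [Ideal.mem_comap, hID] at h2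
        exact hev_h ((RingHom.congr_fun hιev h) ▸ h2)
      have hp' : (((I.map (algebraMap S D)).comap (algebraMap S D)).map (Ideal.Quotient.mk I)).IsPrime :=
        Ideal.map_isPrime_of_surjective Ideal.Quotient.mk_surjective (by rwa [Ideal.mk_ker])
      by_cases hb : ((I.map (algebraMap S D)).comap (algebraMap S D)).map (Ideal.Quotient.mk I) = ⊥
      · exact haI (Ideal.Quotient.eq_zero_iff_mem.1 ((Submodule.mem_bot _).1 (hb.le (Ideal.mem_map_of_mem _ (Ideal.mem_comap.2 h')))))
      · haveI := hp'
        have hmax := IsPrime.to_maximal_ideal (R := S ⧸ I) hb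
        exact hne ((IsLocalRing.maximal_ideal_unique (S ⧸ I)).unique hmax (maximalIdeal.isMaximal (S ⧸ I)))
    have hprime : (I.map (algebraMap S D)).IsPrime := hID ▸ hIDp
    have hd : d ∈ I.map (algebraMap S D) := (hprime.mem_or_mem hmem).resolve_left hna
    refine (Submodule.mem_bot _).2 (e.injective ?_)
    rw [map_zero, TensorProduct.quotTensorEquivQuotSMul_mk_one_tmul, Submodule.Quotient.mk_eq_zero,
      Ideal.smul_top_eq_map, Submodule.restrictScalars_mem]
    exact hd
  haveI : Module.Flat S D := (Flatness.fibre_criterion (R := R) (S := S) (S' := D) (M := D) hflat).2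
  refine Groth.Agent.S2865.result S D ?_ hD
  have hne : (maximalIdeal S).map (algebraMap S D) ≤ maximalIdeal D :=
    ((IsLocalRing.local_hom_TFAE (algebraMap S D)).out 0 2).1 ‹IsLocalHom (algebraMap S D)›
  haveI : Nontrivial (D ⧸ (maximalIdeal S).map (algebraMap S D)) :=
    Ideal.Quotient.nontrivial_iff.2 (ne_top_of_le_ne_top (maximalIdeal.isMaximal D).ne_top hne)
  rw [← ringKrullDimZero_iff_ringKrullDim_eq_zero, Ring.krullDimLE_zero_iff]
  intro Q hQ
  let Q' : Ideal D := Q.comap (Ideal.Quotient.mk ((maximalIdeal S).map (algebraMap S D)))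
  haveI : Q'.IsPrime := Ideal.IsPrime.comap _
  have hle : (maximalIdeal S).map (algebraMap S D) ≤ Q' := fun z hz => by
    rw [Ideal.mem_comap, Ideal.Quotient.eq_zero_iff_mem.2 hz]
    exact Q.zero_mem
  have hQR : (maximalIdeal R₁).map PowerSeries.C ≤ Q' := by
    rw [← hID]
    exact (Ideal.map_mono (hmaxS ▸ le_sup_left : I ≤ maximalIdeal S)).trans hle
  have hevQ : ev h ∈ Q' := by
    rw [← RingHom.congr_fun hιev h]
    exact hle (Ideal.mem_map_of_mem _ (hmaxS ▸ Submodule.mem_sup_right (Ideal.mem_span_singleton_self _)))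
  obtain ⟨P₁, u, H₁⟩ := PowerSeries.exists_isWeierstrassFactorization (g := ev h) (fun h0 => hev_h (by
    rw [map_C_eq_ker]; exact h0))
  have hP₁Q : (P₁ : D) ∈ Q' := by
    rw [H₁.eq_mul] at hevQ
    exact (Ideal.IsPrime.mem_or_mem ‹_› hevQ).resolve_right
      fun hu => Ideal.IsPrime.ne_top ‹_› (Ideal.eq_top_of_isUnit_mem _ hu H₁.isUnit)
  have hXQ : (PowerSeries.X : D) ∈ Q' := by
    have hdiff : (P₁ : D) - PowerSeries.X ^ P₁.natDegree ∈ Q' := by
      refine hQR ?_
      rw [map_C_eq_ker, RingHom.mem_ker, map_sub, map_pow, PowerSeries.map_X,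
        ← Polynomial.polynomial_map_coe, H₁.isDistinguishedAt.map_eq_X_pow, Polynomial.coe_pow, Polynomial.coe_X,
        sub_self]
    have := Q'.sub_mem hP₁Q hdiff
    rw [sub_sub_cancel] at this
    exact Ideal.IsPrime.mem_of_pow_mem ‹_› _ this
  have hQmax := eq_maximal_of_X_mem (A := R₁) (P := Q') (Ideal.map_le_iff_le_comap.1 hQR) hXQ
  rw [← Ideal.map_comap_of_surjective _ Ideal.Quotient.mk_surjective Q]
  haveI : Q'.IsMaximal := by rw [hQmax]; infer_instance
  exact Ideal.IsMaximal.map_of_surjective_of_ker_le Ideal.Quotient.mk_surjective (by rw [Ideal.mk_ker]; exact hle)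

end GrothLib.RamSam
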