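import Groth.Agent.Lib.N2.PowerSeries
import Groth.Agent.Lib.HLVT.Subring
import Mathlib.RingTheory.PowerSeries.WeierstrassPreparation
import Mathlib.RingTheory.Polynomial.GaussLemma
import Mathlib.RingTheory.Ideal.Height

/-!
# The theorem of Ramanujam and Samuel for power series rings

A prime of height one of `A[[X₁, …, Xₙ]]`, for a complete local Noetherian normal domain `A`, which is
not contained in `m[[X₁, …, Xₙ]]` is principal, generated by an irreducible distinguished polynomial
after a change of variables.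
-/

set_option autoImplicit false

universe u

open IsLocalRing

namespace GrothLib.RamSam

theorem exists_strict_min_weight : ∀ (m : ℕ) (S : Set (Fin m → ℕ)), S.Nonempty →
    ∃ e ∈ S, ∀ N : ℕ, (∀ i, e i < N) → ∀ e' ∈ S, e' ≠ e →
      ∑ i, e i * N ^ (i : ℕ) < ∑ i, e' i * N ^ (i : ℕ) := by
  intro m
  induction m with
  | zero =>
    rintro S ⟨e, he⟩
    exact ⟨e, he, fun N _ e' _ hne => absurd (Subsingleton.elim e' e) hne⟩
  | succ m ih =>
    intro S hS
    obtain ⟨t, ⟨e₀, he₀, rfl⟩, ht⟩ := ih (Fin.tail '' S) (hS.image _)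
    classical
    have hex : ∃ a, (Fin.cons a (Fin.tail e₀) : Fin (m + 1) → ℕ) ∈ S :=
      ⟨e₀ 0, by rwa [Fin.cons_self_tail]⟩
    refine ⟨_, Nat.find_spec hex, fun N hN e' he' hne => ?_⟩
    have hw : ∀ v : Fin (m + 1) → ℕ,
        ∑ i, v i * N ^ (i : ℕ) = v 0 + N * ∑ i, Fin.tail v i * N ^ (i : ℕ) := fun v => by
      rw [Fin.sum_univ_succ, Finset.mul_sum]
      simp [Fin.tail, pow_succ, mul_assoc, mul_left_comm, mul_comm]
    rw [hw, hw, Fin.cons_zero, Fin.tail_cons]
    by_cases htail : Fin.tail e' = Fin.tail e₀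
    · have hmem : (Fin.cons (e' 0) (Fin.tail e₀) : Fin (m + 1) → ℕ) ∈ S := by
        rwa [← htail, Fin.cons_self_tail]
      have hle := Nat.find_le (h := hex) hmem
      have hne0 : Nat.find hex ≠ e' 0 := fun h => hne (by rw [← Fin.cons_self_tail e', ← h, htail])
      rw [htail]
      omega
    · have h0 := hN 0
      rw [Fin.cons_zero] at h0
      have hlt := ht N (fun i => by simpa using hN i.succ) _ ⟨e', he', rfl⟩ htail
      have : N * (∑ i, Fin.tail e₀ i * N ^ (i : ℕ) + 1) ≤ N * ∑ i, Fin.tail e' i * N ^ (i : ℕ) :=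
        Nat.mul_le_mul_left N hlt
      rw [Nat.mul_add, Nat.mul_one] at this
      omega

variable {A : Type u} [CommRing A] {n : ℕ}

/-- A power series with all coefficients in a finitely generated ideal lies in its extension. -/
theorem mem_map_C {σ : Type} {I : Ideal A} (hI : I.FG) {f : MvPowerSeries σ A}
    (h : ∀ e, MvPowerSeries.coeff e f ∈ I) : f ∈ I.map (MvPowerSeries.C : A →+* MvPowerSeries σ A) := by
  obtain ⟨r, g, hg⟩ := Submodule.fg_iff_exists_fin_generating_family.1 hI
  choose c hc using fun e => (Submodule.mem_span_range_iff_exists_fun A).1 (hg.symm ▸ h e)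
  have hf : f = ∑ i, MvPowerSeries.C (g i) * (show MvPowerSeries σ A from fun e => c e i) := by
    ext e
    rw [← hc e, map_sum]
    refine Finset.sum_congr rfl fun i _ => ?_
    rw [MvPowerSeries.coeff_C_mul, smul_eq_mul, mul_comm]
    rfl
  rw [hf]
  exact Ideal.sum_mem _ fun i _ => Ideal.mul_mem_right _ _
    (Ideal.mem_map_of_mem _ (hg ▸ Submodule.subset_span ⟨i, rfl⟩))

/-- The variables shifted by powers of the zeroth one. -/
noncomputable def shift (N : ℕ) (c : A) (i : Fin (n + 1)) : MvPowerSeries (Fin (n + 1)) A :=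
  if i = 0 then MvPowerSeries.X 0
  else MvPowerSeries.X i + MvPowerSeries.C c * MvPowerSeries.X 0 ^ (N ^ (i : ℕ))

theorem hasSubst_shift {N : ℕ} (hN : 0 < N) (c : A) :
    MvPowerSeries.HasSubst (shift (n := n) N c) := by
  refine MvPowerSeries.hasSubst_of_constantCoeff_zero fun i => ?_
  unfold shift
  split
  · simp
  · simp [zero_pow (pow_pos hN _).ne']

theorem subst_shift {N : ℕ} (hN : 0 < N) {c d : A} (h : c + d = 0) (i : Fin (n + 1)) :
    MvPowerSeries.subst (shift (n := n) N d) (shift N c i) = MvPowerSeries.X i := by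
  have hd := hasSubst_shift (n := n) hN d
  unfold shift at hd ⊢
  by_cases hi : i = 0
  · subst hi
    rw [if_pos rfl, MvPowerSeries.subst_X hd, if_pos rfl]
  · rw [if_neg hi, MvPowerSeries.subst_add hd, MvPowerSeries.subst_mul hd, MvPowerSeries.subst_pow hd,
      MvPowerSeries.subst_X hd, MvPowerSeries.subst_X hd, MvPowerSeries.subst_C, if_neg hi, if_pos rfl,
      add_assoc, ← add_mul, ← map_add, add_comm d c, h, map_zero, zero_mul, add_zero]

/-- The automorphism of the power series ring shifting the variables by powers of the zeroth one. -/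
noncomputable def shiftEquiv {N : ℕ} (hN : 0 < N) :
    MvPowerSeries (Fin (n + 1)) A ≃ₐ[A] MvPowerSeries (Fin (n + 1)) A :=
  AlgEquiv.ofAlgHom (MvPowerSeries.substAlgHom (hasSubst_shift hN (1 : A)))
    (MvPowerSeries.substAlgHom (hasSubst_shift hN (-1 : A)))
    (AlgHom.ext fun f => by
      rw [AlgHom.comp_apply, MvPowerSeries.substAlgHom_apply, MvPowerSeries.substAlgHom_apply,
        MvPowerSeries.subst_comp_subst_apply (hasSubst_shift hN _) (hasSubst_shift hN _),
        funext (subst_shift hN (neg_add_cancel (1 : A))), MvPowerSeries.subst_self]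
      rfl)
    (AlgHom.ext fun f => by
      rw [AlgHom.comp_apply, MvPowerSeries.substAlgHom_apply, MvPowerSeries.substAlgHom_apply,
        MvPowerSeries.subst_comp_subst_apply (hasSubst_shift hN _) (hasSubst_shift hN _),
        funext (subst_shift hN (add_neg_cancel (1 : A))), MvPowerSeries.subst_self]
      rfl)

/-- Outside `m[[X]]` a power series becomes regular in the zeroth variable after a shift. -/
theorem exists_shift_regular [IsLocalRing A] {f : MvPowerSeries (Fin (n + 1)) A}
    (hf : ∃ e, MvPowerSeries.coeff e f ∉ maximalIdeal A) :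
    ∃ (N : ℕ) (hN : 0 < N) (d : ℕ),
      IsUnit (PowerSeries.coeff d (MvPowerSeries.finSuccEquiv A n (shiftEquiv hN f))) := by
  classical
  obtain ⟨e₁, he₁⟩ := hf
  let S : Set (Fin (n + 1) → ℕ) :=
    {v | residue A (MvPowerSeries.coeff (Finsupp.equivFunOnFinite.symm v) f) ≠ 0}
  obtain ⟨v, hv, hmin⟩ := exists_strict_min_weight _ S
    ⟨e₁, by simpa [S, residue_eq_zero_iff] using he₁⟩
  let N := (Finset.univ.sup v) + 1
  have hN : 0 < N := Nat.succ_pos _
  have hvN : ∀ i, v i < N := fun i => Nat.lt_succ_of_le (Finset.le_sup (Finset.mem_univ i))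
  refine ⟨N, hN, ∑ i, v i * N ^ (i : ℕ), ?_⟩
  set d := ∑ i, v i * N ^ (i : ℕ)
  let φ : MvPowerSeries (Fin (n + 1)) A →+* PowerSeries A :=
    (PowerSeries.map MvPowerSeries.constantCoeff).comp (MvPowerSeries.finSuccEquiv A n).toRingEquiv.toRingHom
  have hφ : ∀ x, MvPowerSeries.coeff (Finsupp.cons d 0) x = PowerSeries.coeff d (φ x) := fun x => by
    rw [← MvPowerSeries.coeff_coeff_finSuccEquiv, MvPowerSeries.coeff_zero_eq_constantCoeff_apply]
    simp [φ]
  have hφa : ∀ i, φ (shift N (1 : A) i) = PowerSeries.X ^ (N ^ (i : ℕ)) := fun i => by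
    have h0 : φ (MvPowerSeries.X 0) = PowerSeries.X := by simp [φ]
    have hs : ∀ j : Fin n, φ (MvPowerSeries.X j.succ) = 0 := fun j => by simp [φ]
    refine Fin.cases ?_ (fun j => ?_) i
    · simp [shift, h0]
    · simp [shift, Fin.succ_ne_zero, h0, hs j]
  rw [MvPowerSeries.isUnit_iff_constantCoeff, ← MvPowerSeries.coeff_zero_eq_constantCoeff_apply,
    MvPowerSeries.coeff_coeff_finSuccEquiv, ← residue_ne_zero_iff_isUnit]
  show residue A (MvPowerSeries.coeff (Finsupp.cons d 0)
    (MvPowerSeries.substAlgHom (hasSubst_shift hN (1 : A)) f)) ≠ 0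
  rw [MvPowerSeries.substAlgHom_apply, MvPowerSeries.coeff_subst (hasSubst_shift hN (1 : A))]
  have hterm : ∀ e : Fin (n + 1) →₀ ℕ,
      MvPowerSeries.coeff (Finsupp.cons d 0) (e.prod fun s k => shift N (1 : A) s ^ k) =
        if (∑ i, e i * N ^ (i : ℕ)) = d then 1 else 0 := fun e => by
    rw [hφ, Finsupp.prod_fintype _ _ (fun i => pow_zero _), map_prod]
    simp only [map_pow, hφa, ← pow_mul]
    rw [Finset.prod_pow_eq_pow_sum, PowerSeries.coeff_X_pow]
    simp only [mul_comm (N ^ _), eq_comm]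
  rw [map_finsum (residue A) (MvPowerSeries.coeff_subst_finite (hasSubst_shift hN (1 : A)) f _),
    finsum_eq_single _ (Finsupp.equivFunOnFinite.symm v)]
  · rw [hterm, if_pos (by simp [d]), smul_eq_mul, mul_one]
    exact hv
  · intro e he
    rw [hterm]
    split_ifs with hd
    · by_contra hne
      have hmem : (⇑e) ∈ S := by simpa [S] using hne
      have hev : (⇑e) ≠ v := fun h => he (Finsupp.ext fun i => by simp [← h])
      exact (hmin N hvN _ hmem hev).ne hd.symm
    · simp

/-- A height-one prime of `R[[T]]` containing a series regular in `T` is principal. -/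
theorem principal_of_map_ne_zero {R : Type u} [CommRing R] [IsDomain R] [IsNoetherianRing R] [IsLocalRing R]
    [IsIntegrallyClosed R] [IsAdicComplete (maximalIdeal R) R]
    (q : Ideal (PowerSeries R)) [q.IsPrime] (hq : q.height = 1) (G : PowerSeries R) (hG : G ∈ q)
    (hG0 : G.map (residue R) ≠ 0) : ∃ g : Polynomial R, q = Ideal.span {(g : PowerSeries R)} := by
  classical
  obtain ⟨P, h, H⟩ := PowerSeries.exists_isWeierstrassFactorization hG0
  have hP : (P : PowerSeries R) ∈ q := by
    rw [H.eq_mul] at hG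
    exact (Ideal.IsPrime.mem_or_mem ‹_› hG).resolve_right
      fun hh => Ideal.IsPrime.ne_top ‹_› (Ideal.eq_top_of_isUnit_mem _ hh H.isUnit)
  have hex : ∃ k, ∃ g : Polynomial R, g.Monic ∧ g ∣ P ∧ (g : PowerSeries R) ∈ q ∧ g.natDegree = k :=
    ⟨_, P, H.isDistinguishedAt.monic, dvd_rfl, hP, rfl⟩
  obtain ⟨g, hgm, hgP, hgq, hgdeg⟩ := Nat.find_spec hex
  have hne1 : g ≠ 1 := fun h1 => Ideal.IsPrime.ne_top ‹q.IsPrime›
    ((Ideal.eq_top_iff_one q).2 (by simpa [h1] using hgq))
  have hirr : Irreducible g := by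
    refine (hgm.irreducible_iff_natDegree).2 ⟨hne1, fun a b ha hb hab => ?_⟩
    by_contra hc
    push Not at hc
    have hdeg : a.natDegree + b.natDegree = g.natDegree := by rw [← ha.natDegree_mul hb, hab]
    have hmem : (a : PowerSeries R) * b ∈ q := by rw [← Polynomial.coe_mul, hab]; exact hgq
    rcases Ideal.IsPrime.mem_or_mem ‹_› hmem with hh | hh
    · exact Nat.find_min hex (m := a.natDegree) (by omega) ⟨a, ha, (dvd_mul_right a b).trans (hab ▸ hgP), hh, rfl⟩
    · exact Nat.find_min hex (m := b.natDegree) (by omega) ⟨b, hb, (dvd_mul_left b a).trans (hab ▸ hgP), hh, rfl⟩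
  have hdist : g.IsDistinguishedAt (maximalIdeal R) := by
    have hd : g.map (residue R) ∣ (Polynomial.X : Polynomial (ResidueField R)) ^ P.natDegree := by
      have h2 := Polynomial.map_dvd (Ideal.Quotient.mk (maximalIdeal R)) hgP
      rw [H.isDistinguishedAt.map_eq_X_pow] at h2
      exact h2
    obtain ⟨i, -, hi⟩ := (dvd_prime_pow Polynomial.prime_X _).1 hd
    have hi' := Polynomial.eq_of_monic_of_associated (hgm.map _) (Polynomial.monic_X_pow i) hi
    have hid : i = g.natDegree := by
      rw [← Polynomial.natDegree_X_pow (R := ResidueField R) i, ← hi', hgm.natDegree_map]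
    refine ⟨⟨fun {j} hj => ?_⟩, hgm⟩
    rw [← residue_eq_zero_iff, ← Polynomial.coeff_map, hi', Polynomial.coeff_X_pow, if_neg (by omega)]
  have hprime : (Ideal.span {g} : Ideal (Polynomial R)).IsPrime := by
    refine (Ideal.span_singleton_prime hgm.ne_zero).2 ⟨hgm.ne_zero, hirr.not_isUnit, fun a b hab => ?_⟩
    have hp : Prime (g.map (algebraMap R (FractionRing R))) :=
      ((hgm.irreducible_iff_irreducible_map_fraction_map).1 hirr).prime
    have h2 := Polynomial.map_dvd (algebraMap R (FractionRing R)) hab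
    rw [Polynomial.map_mul] at h2
    rcases hp.dvd_or_dvd h2 with h3 | h3
    · exact Or.inl ((Polynomial.map_dvd_map _ (IsFractionRing.injective R _) hgm).1 h3)
    · exact Or.inr ((Polynomial.map_dvd_map _ (IsFractionRing.injective R _) hgm).1 h3)
  refine ⟨g, ?_⟩
  have hprime' : (Ideal.span {(g : PowerSeries R)}).IsPrime := by
    rw [← Ideal.Quotient.isDomain_iff_prime]
    haveI : IsDomain (Polynomial R ⧸ Ideal.span {g}) := (Ideal.Quotient.isDomain_iff_prime _).2 hprime
    exact MulEquiv.isDomain _ hdist.algEquivQuotient.symm.toRingEquiv.toMulEquiv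
  have hle : Ideal.span {(g : PowerSeries R)} ≤ q := (Ideal.span_singleton_le_iff_mem q).2 hgq
  by_contra hne
  have hbot : (⊥ : Ideal (PowerSeries R)) < Ideal.span {(g : PowerSeries R)} :=
    bot_lt_iff_ne_bot.2 fun h0 => hgm.ne_zero (by simpa [Ideal.span_singleton_eq_bot] using h0)
  have h1 := Ideal.height_strict_mono_of_isPrime hbot
  have h2 := Ideal.height_strict_mono_of_isPrime (lt_of_le_of_ne hle (Ne.symm hne))
  rw [hq, Order.lt_one_iff] at h2
  rw [h2] at h1
  exact not_lt_zero h1

theorem isIntegrallyClosed_mvPowerSeries (A : Type u) [CommRing A] [IsDomain A] [IsNoetherianRing A]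
    [IsIntegrallyClosed A] : ∀ r : ℕ, IsIntegrallyClosed (MvPowerSeries (Fin r) A)
  | 0 => IsIntegrallyClosed.of_equiv (MvPowerSeries.isEmptyEquiv (Fin 0) A).toRingEquiv.symm
  | r + 1 => by
    haveI := isIntegrallyClosed_mvPowerSeries A r
    haveI : IsIntegrallyClosed (PowerSeries (MvPowerSeries (Fin r) A)) := GrothLib.N2.isIntegrallyClosed_powerSeries
    exact IsIntegrallyClosed.of_equiv (MvPowerSeries.finSuccEquiv A r).toRingEquiv.symm

/-- **Ramanujam–Samuel** for power series rings. -/
theorem isPrincipal (A : Type u) [CommRing A] [IsDomain A] [IsNoetherianRing A] [IsLocalRing A]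
    [IsIntegrallyClosed A] [IsAdicComplete (maximalIdeal A) A] : ∀ (n : ℕ)
    (q : Ideal (MvPowerSeries (Fin n) A)) [q.IsPrime], q.height = 1 →
    ¬ q ≤ (maximalIdeal A).map (MvPowerSeries.C : A →+* MvPowerSeries (Fin n) A) → Submodule.IsPrincipal q := by
  intro n q _ hq hqm
  obtain ⟨f, hfq, hf⟩ := SetLike.not_le_iff_exists.1 hqm
  have hfe : ∃ e, MvPowerSeries.coeff e f ∉ maximalIdeal A := by
    by_contra hc
    push Not at hc
    exact hf (mem_map_C (IsNoetherian.noetherian _) hc)
  rcases n with _ | n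
  · obtain ⟨e, he⟩ := hfe
    rw [Subsingleton.elim e 0, MvPowerSeries.coeff_zero_eq_constantCoeff_apply, IsLocalRing.notMem_maximalIdeal,
      ← MvPowerSeries.isUnit_iff_constantCoeff] at he
    exact absurd (Ideal.eq_top_of_isUnit_mem q hfq he) (Ideal.IsPrime.ne_top ‹_›)
  · obtain ⟨N, hN, d, hd⟩ := exists_shift_regular hfe
    haveI := isIntegrallyClosed_mvPowerSeries A n
    haveI : IsAdicComplete (maximalIdeal (MvPowerSeries (Fin n) A)) (MvPowerSeries (Fin n) A) :=
      GrothLib.HLVT.isAdicComplete_powerSeries A n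
    let Φ : MvPowerSeries (Fin (n + 1)) A ≃+* PowerSeries (MvPowerSeries (Fin n) A) :=
      ((shiftEquiv hN).trans (MvPowerSeries.finSuccEquiv A n)).toRingEquiv
    haveI : (q.map Φ).IsPrime := Ideal.map_isPrime_of_equiv Φ
    obtain ⟨g, hg⟩ := principal_of_map_ne_zero (q.map Φ) ((RingEquiv.height_map Φ q).trans hq) (Φ f)
      (Ideal.mem_map_of_mem _ hfq) (fun h0 => by
        have := congrArg (PowerSeries.coeff d) h0
        rw [PowerSeries.coeff_map, map_zero, residue_eq_zero_iff] at this
        exact (mem_nonunits_iff.1 this) hd)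
    refine ⟨⟨Φ.symm (g : PowerSeries (MvPowerSeries (Fin n) A)), ?_⟩⟩
    have := congrArg (Ideal.map Φ.symm) hg
    erw [Ideal.map_of_equiv, Ideal.map_span, Set.image_singleton] at this
    exact this

end GrothLib.RamSam
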