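import Groth.Agent.Lib.RamSam.Depth2

/-!
# Modules free of rank one outside the closed point of `Spec A[[T]]`
-/

set_option autoImplicit false
set_option linter.style.haveILetI false

universe u

open IsLocalRing

namespace GrothLib.RamSam

variable {A : Type u} [CommRing A] [IsNoetherianRing A] [IsLocalRing A]
  [IsAdicComplete (maximalIdeal A) A]

theorem X_not_mem_map_C {p : Ideal A} (hp : p ≠ ⊤) : (PowerSeries.X : PowerSeries A) ∉ p.map PowerSeries.C := by
  intro h
  have := coeff_mem_map_C h 1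
  rw [PowerSeries.coeff_one_X] at this
  exact hp ((Ideal.eq_top_iff_one p).2 this)

/-- A prime over `m` which contains `X` is maximal. -/
theorem eq_maximal_of_X_mem {P : Ideal (PowerSeries A)} [P.IsPrime]
    (hm : maximalIdeal A ≤ P.comap PowerSeries.C) (hX : PowerSeries.X ∈ P) : P = maximalIdeal (PowerSeries A) := by
  refine le_antisymm (le_maximalIdeal (Ideal.IsPrime.ne_top ‹_›)) fun b hb => ?_
  rw [PowerSeries.eq_X_mul_shift_add_const b]
  refine P.add_mem (P.mul_mem_right _ hX) (hm ?_)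
  intro hu
  exact hb (PowerSeries.isUnit_iff_constantCoeff.2 hu)

/-- A finite module free of rank one at all primes but the maximal one maps to `A[[T]]` bijectively there. -/
theorem exists_gen_functional {x y : A} (hxm : x ∈ maximalIdeal A) (hym : y ∈ maximalIdeal A)
    (hx : ∀ c, x * c = 0 → c = 0) (hxy : ∀ c c', x * c' = y * c → x ∣ c)
    {M : Type u} [AddCommGroup M] [Module (PowerSeries A) M] [Module.Finite (PowerSeries A) M]
    (hM : ∀ P : Ideal (PowerSeries A), P.IsPrime → P ≠ maximalIdeal (PowerSeries A) →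
      ∃ (m : M) (s : PowerSeries A), s ∉ P ∧ GenAt m s) :
    ∃ ψ : M →ₗ[PowerSeries A] PowerSeries A, ∀ P : Ideal (PowerSeries A), P.IsPrime →
      P ≠ maximalIdeal (PowerSeries A) → ∃ (m : M) (s : PowerSeries A), s ∉ P ∧ GenAt m s ∧ ψ m ∉ P := by
  classical
  let P₀ : Ideal (PowerSeries A) := (maximalIdeal A).map PowerSeries.C
  haveI hP₀ : P₀.IsPrime := isPrime_map_C _
  have hP₀m : P₀ ≠ maximalIdeal (PowerSeries A) := fun h => by
    refine X_not_mem_map_C (maximalIdeal.isMaximal A).ne_top (h.ge (mem_nonunits_iff.2 fun hu => ?_))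
    have := PowerSeries.isUnit_iff_constantCoeff.1 hu
    rw [PowerSeries.constantCoeff_X] at this
    exact not_isUnit_zero this
  obtain ⟨m₀, s₀, hs₀, hgen₀⟩ := hM P₀ hP₀ hP₀m
  obtain ⟨φ, k₀, hφ⟩ := exists_functional hgen₀
  let I : Ideal (PowerSeries A) := LinearMap.range φ
  have hg : φ m₀ ∉ P₀ := by rw [hφ]; exact fun h => hs₀ (hP₀.mem_of_pow_mem _ h)
  have hgres : (φ m₀).map (residue A) ≠ 0 := fun h0 => hg (by
    show φ m₀ ∈ (maximalIdeal A).map PowerSeries.C
    rw [map_C_eq_ker]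
    exact h0)
  obtain ⟨Pg, h, H⟩ := PowerSeries.exists_isWeierstrassFactorization hgres
  obtain ⟨hu, hhu⟩ := H.isUnit
  have hPgI : (Pg : PowerSeries A) ∈ I := by
    have : (Pg : PowerSeries A) = (↑hu⁻¹ : PowerSeries A) * φ m₀ := by
      rw [H.eq_mul, ← hhu, mul_comm (Pg : PowerSeries A), ← mul_assoc, Units.inv_mul, one_mul]
    rw [this]
    exact I.mul_mem_left _ ⟨m₀, rfl⟩
  have hdist := H.isDistinguishedAt
  have hPgm : Pg.Monic := hdist.monic
  have hsurj : ∀ b : PowerSeries A, ∃ q : Polynomial A,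
      b - (q : PowerSeries A) ∈ Ideal.span {(Pg : PowerSeries A)} := fun b => by
    obtain ⟨q, hq⟩ := Ideal.Quotient.mk_surjective (hdist.algEquivQuotient.symm (Ideal.Quotient.mk _ b))
    refine ⟨q, Ideal.Quotient.eq.1 ?_⟩
    have := congrArg hdist.algEquivQuotient hq
    rw [AlgEquiv.apply_symm_apply, Polynomial.IsDistinguishedAt.algEquivQuotient_apply] at this
    exact this.symm
  have hinj : ∀ q : Polynomial A, (q : PowerSeries A) ∈ Ideal.span {(Pg : PowerSeries A)} → Pg ∣ q := fun q hq => by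
    rw [← Ideal.mem_span_singleton, ← Ideal.Quotient.eq_zero_iff_mem]
    apply hdist.algEquivQuotient.injective
    rw [map_zero, Polynomial.IsDistinguishedAt.algEquivQuotient_apply]
    exact Ideal.Quotient.eq_zero_iff_mem.2 hq
  have hnzd : ∀ b : PowerSeries A, (Pg : PowerSeries A) * b = 0 → b = 0 := fun b hb =>
    (hdist.isWeierstrassDivisorAt'.eq_zero_of_mul_eq (r := 0)
      (by rw [Polynomial.degree_zero]; exact WithBot.bot_lt_coe _) (by rw [Polynomial.coe_zero]; exact hb)).1
  let J : Ideal (Polynomial A) := I.comap Polynomial.coeToPowerSeries.ringHom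
  have hJmem : ∀ q : Polynomial A, q ∈ J ↔ (q : PowerSeries A) ∈ I := fun q => Iff.rfl
  have hsp : Ideal.span {(Pg : PowerSeries A)} ≤ I := (Ideal.span_singleton_le_iff_mem I).2 hPgI
  have hmem : ∀ (p : Ideal A) [p.IsPrime], p ≠ maximalIdeal A → ∀ f ∈ J, (∀ i, f.coeff i ∈ p) →
      ∃ u ∉ p, Polynomial.C u * f ∈ p.map Polynomial.C * J := by
    intro p _ hp f hf hfp
    let pB : Ideal (PowerSeries A) := p.map PowerSeries.C
    haveI hpB : pB.IsPrime := isPrime_map_C p
    have hfpB : (f : PowerSeries A) ∈ pB := by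
      show (f : PowerSeries A) ∈ p.map PowerSeries.C
      rw [map_C_eq_ker]
      exact RingHom.mem_ker.2 (PowerSeries.ext fun i => by
        rw [PowerSeries.coeff_map, Polynomial.coeff_coe, map_zero, Ideal.Quotient.eq_zero_iff_mem]
        exact hfp i)
    let Cq : Ideal (PowerSeries A) := Submodule.comap (LinearMap.mulRight (PowerSeries A) (f : PowerSeries A)) (pB * I)
    have hCq : ∀ b, b ∈ Cq ↔ b * f ∈ pB * I := fun b => Iff.rfl
    obtain ⟨u, huC, hup⟩ : ∃ u, PowerSeries.C u ∈ Cq ∧ u ∉ p := by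
      by_contra hc
      push Not at hc
      let S := PowerSeries A ⧸ Ideal.span {(Pg : PowerSeries A)}
      haveI : Module.Finite A (Polynomial A ⧸ Ideal.span {Pg}) := hPgm.finite_adjoinRoot
      haveI : Module.Finite A S := Module.Finite.equiv hdist.algEquivQuotient.toLinearEquiv
      have hcomap : (Cq.map (Ideal.Quotient.mk (Ideal.span {(Pg : PowerSeries A)}))).comap
          (Ideal.Quotient.mk (Ideal.span {(Pg : PowerSeries A)})) = Cq := by
        refine (Ideal.comap_map_of_surjective _ Ideal.Quotient.mk_surjective _).trans (sup_eq_left.2 ?_)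
        rw [← RingHom.ker_eq_comap_bot, Ideal.mk_ker, Ideal.span_singleton_le_iff_mem, hCq, mul_comm (Pg : PowerSeries A)]
        exact Ideal.mul_mem_mul hfpB hPgI
      obtain ⟨Q, hQ, hQp, hQc⟩ := Ideal.exists_ideal_over_prime_of_isIntegral p
        (Cq.map (Ideal.Quotient.mk (Ideal.span {(Pg : PowerSeries A)})))
        (fun a ha => hc a (hcomap ▸ Ideal.mem_comap.2 ha))
      let P := Q.comap (Ideal.Quotient.mk (Ideal.span {(Pg : PowerSeries A)}))
      haveI : P.IsPrime := Ideal.IsPrime.comap _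
      have hCP : Cq ≤ P := hcomap ▸ Ideal.comap_mono hQ
      have hPc : P.comap PowerSeries.C = p := hQc
      have hPm : P ≠ maximalIdeal (PowerSeries A) := fun h => by
        refine hp (le_antisymm (le_maximalIdeal (Ideal.IsPrime.ne_top ‹_›)) fun a ha => ?_)
        rw [← hPc, h]
        show PowerSeries.C a ∈ maximalIdeal (PowerSeries A)
        intro hua
        exact ha (by simpa using PowerSeries.isUnit_iff_constantCoeff.1 hua)
      have hpBP : pB ≤ P := Ideal.map_le_iff_le_comap.2 hPc.ge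
      obtain ⟨m, s, hs, hgen⟩ := hM P inferInstance hPm
      obtain ⟨z, hz⟩ : ∃ z, φ z = (f : PowerSeries A) := hf
      obtain ⟨k, b, hkb⟩ := hgen.1 z
      have e1 : s ^ k * (f : PowerSeries A) = b * φ m := by
        rw [← hz, ← smul_eq_mul, ← map_smul, hkb, map_smul, smul_eq_mul]
      have hspB : s ∉ pB := fun h => hs (hpBP h)
      have hcpB : φ m ∉ pB := by
        intro hmem
        obtain ⟨l, d, hld⟩ := hgen.1 m₀
        have e2 : s ^ l * φ m₀ = d * φ m := by
          rw [← smul_eq_mul, ← map_smul, hld, map_smul, smul_eq_mul]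
        have h2 : φ m₀ ∈ pB :=
          (hpB.mem_or_mem (show s ^ l * φ m₀ ∈ pB by rw [e2]; exact pB.mul_mem_left _ hmem)).resolve_left
            fun h => hspB (hpB.mem_of_pow_mem _ h)
        exact hg (Ideal.map_mono (le_maximalIdeal (Ideal.IsPrime.ne_top ‹p.IsPrime›)) h2)
      have hb : b ∈ pB :=
        (hpB.mem_or_mem (show b * φ m ∈ pB by rw [← e1]; exact pB.mul_mem_left _ hfpB)).resolve_right hcpB
      refine hs ((Ideal.IsPrime.mem_of_pow_mem ‹_› k) (hCP ?_))
      rw [hCq, e1]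
      exact Ideal.mul_mem_mul hb ⟨m, rfl⟩
    refine ⟨u, hup, ?_⟩
    have key : ∀ e ∈ pB * I, ∃ h ∈ p.map Polynomial.C * J,
        e - (h : PowerSeries A) ∈ Ideal.span {(Pg : PowerSeries A)} := by
      intro e he
      induction he using Submodule.mul_induction_on' with
      | mem_mul_mem a ha i hi =>
        change a ∈ Ideal.span (PowerSeries.C '' (p : Set A)) at ha
        induction ha using Submodule.span_induction generalizing i with
        | mem c hc =>
          obtain ⟨c, hc, rfl⟩ := hc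
          obtain ⟨q, hq⟩ := hsurj i
          refine ⟨Polynomial.C c * q, Ideal.mul_mem_mul (Ideal.mem_map_of_mem _ hc) ((hJmem q).2 ?_), ?_⟩
          · have := I.sub_mem hi (hsp hq)
            rwa [sub_sub_cancel] at this
          · rw [Polynomial.coe_mul, Polynomial.coe_C, ← mul_sub]
            exact Ideal.mul_mem_left _ _ hq
        | zero => exact ⟨0, Submodule.zero_mem _, by simp⟩
        | add a b _ _ ha hb =>
          obtain ⟨h₁, h₁m, h₁e⟩ := ha i hi
          obtain ⟨h₂, h₂m, h₂e⟩ := hb i hi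
          refine ⟨h₁ + h₂, add_mem h₁m h₂m, ?_⟩
          rw [add_mul, Polynomial.coe_add, add_sub_add_comm]
          exact add_mem h₁e h₂e
        | smul c a _ ha =>
          obtain ⟨h₁, h₁m, h₁e⟩ := ha (c * i) (I.mul_mem_left _ hi)
          refine ⟨h₁, h₁m, ?_⟩
          rwa [smul_eq_mul, mul_comm c a, mul_assoc]
      | add a _ b _ ha hb =>
        obtain ⟨h₁, h₁m, h₁e⟩ := ha
        obtain ⟨h₂, h₂m, h₂e⟩ := hb
        refine ⟨h₁ + h₂, add_mem h₁m h₂m, ?_⟩
        rw [Polynomial.coe_add, add_sub_add_comm]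
        exact add_mem h₁e h₂e
    obtain ⟨h', hh'm, hh'e⟩ := key _ ((hCq _).1 huC)
    obtain ⟨q', hq'⟩ := hinj (Polynomial.C u * f - h') (by rwa [Polynomial.coe_sub, Polynomial.coe_mul, Polynomial.coe_C])
    have hh'p : h' ∈ p.map Polynomial.C := Ideal.mul_le_left hh'm
    have hq'p : q' ∈ p.map Polynomial.C := by
      have h1 : (Polynomial.C u * f - h') ∈ p.map Polynomial.C :=
        sub_mem (Ideal.mul_mem_left _ _ (Ideal.mem_map_C_iff.2 hfp)) hh'p
      have h3 : ∀ w : Polynomial A, w ∈ p.map Polynomial.C ↔ w.map (Ideal.Quotient.mk p) = 0 := fun w => by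
        rw [Ideal.mem_map_C_iff, Polynomial.ext_iff]
        simp [Ideal.Quotient.eq_zero_iff_mem]
      rw [h3, hq', Polynomial.map_mul] at h1
      exact (h3 q').2 ((hPgm.map (Ideal.Quotient.mk p)).mul_right_eq_zero_iff.1 h1)
    rw [show Polynomial.C u * f = h' + q' * Pg by linear_combination hq']
    exact add_mem hh'm (Ideal.mul_mem_mul hq'p ((hJmem Pg).2 hPgI))
  obtain ⟨Φ, hΦm, hΦt, hΦd⟩ := exists_monic_glue hxm hym hx hxy J Pg hPgm ((hJmem Pg).2 hPgI) hmem
  obtain ⟨q₀, hq₀⟩ := hΦd Pg ((hJmem Pg).2 hPgI)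
  have hΦnzd : ∀ b : PowerSeries A, (Φ : PowerSeries A) * b = 0 → b = 0 := fun b hb => hnzd b (by
    rw [hq₀, Polynomial.coe_mul, mul_right_comm, hb, zero_mul])
  have hdiv : ∀ z : M, ∃ w, φ z = (Φ : PowerSeries A) * w := by
    intro z
    obtain ⟨q, hq⟩ := hsurj (φ z)
    have hqJ : q ∈ J := (hJmem q).2 (by
      have := I.sub_mem (show φ z ∈ I from ⟨z, rfl⟩) (hsp hq)
      rwa [sub_sub_cancel] at this)
    obtain ⟨q₁, rfl⟩ := hΦd q hqJ
    obtain ⟨d, hd⟩ := Ideal.mem_span_singleton'.1 hq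
    refine ⟨(q₁ : PowerSeries A) + d * q₀, ?_⟩
    rw [hq₀, Polynomial.coe_mul, Polynomial.coe_mul] at hd
    linear_combination -hd
  choose ψ hψ using hdiv
  have huniq : ∀ {z : M} {w}, φ z = (Φ : PowerSeries A) * w → ψ z = w := fun {z w} hw =>
    sub_eq_zero.1 (hΦnzd _ (by rw [mul_sub, ← hψ, hw, sub_self]))
  refine ⟨{ toFun := ψ
            map_add' := fun z w => huniq (by rw [map_add, hψ z, hψ w, mul_add])
            map_smul' := fun c z => huniq (by
              rw [map_smul, hψ z, RingHom.id_apply, smul_eq_mul, smul_eq_mul, mul_left_comm]) },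
    fun P hP hPm => ?_⟩
  obtain ⟨m, s, hs, hgen⟩ := hM P hP hPm
  refine ⟨m, s, hs, hgen, fun hmP => ?_⟩
  obtain ⟨z, hzP⟩ : ∃ z, ψ z ∉ P := by
    by_cases hm : P.comap PowerSeries.C = maximalIdeal A
    · obtain ⟨z, hz⟩ : ∃ z, φ z = (Pg : PowerSeries A) := hPgI
      refine ⟨z, fun hzP => hPm (eq_maximal_of_X_mem hm.ge ?_)⟩
      have hPgP : (Pg : PowerSeries A) ∈ P := by
        rw [← hz, hψ]; exact P.mul_mem_left _ hzP
      have hdiff : (Pg : PowerSeries A) - PowerSeries.X ^ Pg.natDegree ∈ P := by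
        refine (Ideal.map_le_iff_le_comap.2 hm.ge : (maximalIdeal A).map PowerSeries.C ≤ P) ?_
        rw [map_C_eq_ker, RingHom.mem_ker, map_sub, map_pow, PowerSeries.map_X,
          ← Polynomial.polynomial_map_coe, hdist.map_eq_X_pow, Polynomial.coe_pow, Polynomial.coe_X, sub_self]
      have := P.sub_mem hPgP hdiff
      rw [sub_sub_cancel] at this
      exact hP.mem_of_pow_mem _ this
    · obtain ⟨t, ht, htJ⟩ := hΦt (P.comap PowerSeries.C) inferInstance hm
      obtain ⟨z, hz⟩ : ∃ z, φ z = ((Polynomial.C t * Φ : Polynomial A) : PowerSeries A) := htJ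
      refine ⟨z, ?_⟩
      rw [huniq (w := PowerSeries.C t) (by rw [hz, Polynomial.coe_mul, Polynomial.coe_C, mul_comm])]
      exact ht
  obtain ⟨k, b, hkb⟩ := hgen.1 z
  have e : s ^ k * ψ z = b * ψ m := by
    refine sub_eq_zero.1 (hΦnzd _ ?_)
    have := congrArg φ hkb
    rw [map_smul, map_smul, hψ z, hψ m, smul_eq_mul, smul_eq_mul] at this
    linear_combination this
  exact (hP.mem_or_mem (show s ^ k * ψ z ∈ P by rw [e]; exact P.mul_mem_left _ hmP)).elim
    (fun h => hs (hP.mem_of_pow_mem _ h)) hzP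

end GrothLib.RamSam
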