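import Groth.Agent.Lib.Depth.Basic
import Groth.Agent.Lib.LC.ExtVanish
import Mathlib.Algebra.Homology.DerivedCategory.Ext.EnoughProjectives
import Mathlib.RingTheory.Flat.Basic

/-!
# Splitting extensions in depth three

Extensions of a module which is trivial away from the closed point by a module of depth at least three split.
-/

set_option autoImplicit false
set_option linter.style.haveILetI false

universe u

open IsLocalRing CategoryTheory CategoryTheory.Abelian

namespace GrothLib.RamSam

/-- A short exact sequence of modules from an exact pair of linear maps. -/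
theorem shortExact_mk {R : Type u} [CommRing R] {X₁ X₂ X₃ : Type u} [AddCommGroup X₁] [AddCommGroup X₂]
    [AddCommGroup X₃] [Module R X₁] [Module R X₂] [Module R X₃] (f : X₁ →ₗ[R] X₂) (g : X₂ →ₗ[R] X₃)
    (hf : Function.Injective f) (hg : Function.Surjective g) (h : Function.Exact f g) :
    (ShortComplex.moduleCatMk f g (LinearMap.ext fun x => h.apply_apply_eq_zero x)).ShortExact where
  exact := (ShortComplex.ShortExact.moduleCat_exact_iff_function_exact _).2 h
  mono_f := (ModuleCat.mono_iff_injective _).2 hf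
  epi_g := (ModuleCat.epi_iff_surjective _).2 hg

variable {S : Type u} [CommRing S] [IsLocalRing S] [IsNoetherianRing S]

/-- `Ext` into a module of depth `≥ n` from a finite module supported at the closed point vanishes below `n`. -/
theorem subsingleton_ext_of_killed (G : Type u) [AddCommGroup G] [Module S G] [Module.Finite S G] {n : ℕ}
    (hG : (n : ℕ∞) ≤ LocCoh.depth S G) (N : Type u) [AddCommGroup N] [Module S N] [Module.Finite S N]
    (hN : ∀ P : Ideal S, P.IsPrime → P ≠ maximalIdeal S → ∀ x : N, ∃ s ∉ P, s • x = 0) (i : ℕ) (hi : i < n) :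
    Subsingleton (Ext (ModuleCat.of S N) (ModuleCat.of S G) i) := by
  have hsupp : Module.support S N ⊆ PrimeSpectrum.zeroLocus (maximalIdeal S : Set S) := by
    intro P hP
    by_contra hP'
    refine (Module.notMem_support_iff'.2 fun x => ?_) hP
    refine hN P.asIdeal P.2 (fun h => hP' ?_) x
    rw [PrimeSpectrum.mem_zeroLocus, h]
  exact LC.subsingleton_ext_of_H (maximalIdeal S) (G := ModuleCat.of S G)
    ((Depth.le_idealDepth_iff_H (maximalIdeal S) n).1 hG) i hi _ inferInstance
    (LC.exists_pow_le_annihilator (maximalIdeal S) hsupp)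

/-- An extension by a module of depth at least three splits if the quotient maps to the ring by a map whose
kernel and cokernel are supported at the closed point. -/
theorem exists_retraction (G : Type u) [AddCommGroup G] [Module S G] [Module.Finite S G]
    (hG : (3 : ℕ∞) ≤ LocCoh.depth S G)
    (M : Type u) [AddCommGroup M] [Module S M] [Module.Finite S M] (φ : M →ₗ[S] S)
    (hk : ∀ P : Ideal S, P.IsPrime → P ≠ maximalIdeal S → ∀ x : M, φ x = 0 → ∃ s ∉ P, s • x = 0)
    (hc : ∀ P : Ideal S, P.IsPrime → P ≠ maximalIdeal S → ∃ m : M, φ m ∉ P)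
    (E : Type u) [AddCommGroup E] [Module S E] (ι : G →ₗ[S] E) (π : E →ₗ[S] M)
    (hι : Function.Injective ι) (hπ : Function.Surjective π) (hex : Function.Exact ι π) :
    ∃ r : E →ₗ[S] G, ∀ g, r (ι g) = g := by
  have hvan : ∀ (N : Type u) [AddCommGroup N] [Module S N] [Module.Finite S N],
      (∀ P : Ideal S, P.IsPrime → P ≠ maximalIdeal S → ∀ x : N, ∃ s ∉ P, s • x = 0) → ∀ i < 3,
      Subsingleton (Ext (ModuleCat.of S N) (ModuleCat.of S G) i) := fun N _ _ _ hN i hi =>
    subsingleton_ext_of_killed G hG N hN i hi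
  let I : Ideal S := LinearMap.range φ
  have hQ : ∀ i < 3, Subsingleton (Ext (ModuleCat.of S (S ⧸ I)) (ModuleCat.of S G) i) := by
    refine hvan _ fun P hP hPne x => ?_
    obtain ⟨m, hm⟩ := hc P hP hPne
    obtain ⟨a, rfl⟩ := Submodule.Quotient.mk_surjective I x
    refine ⟨φ m, hm, ?_⟩
    rw [← Submodule.Quotient.mk_smul, Submodule.Quotient.mk_eq_zero]
    exact ⟨a • m, by rw [map_smul, smul_eq_mul, smul_eq_mul, mul_comm]⟩
  have hK : ∀ i < 3, Subsingleton (Ext (ModuleCat.of S (LinearMap.ker φ)) (ModuleCat.of S G) i) := by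
    refine hvan _ fun P hP hPne x => ?_
    obtain ⟨s, hs, hsx⟩ := hk P hP hPne x.1 x.2
    exact ⟨s, hs, Subtype.ext hsx⟩
  -- first extensions of the image
  have hI : ∀ e : Ext (ModuleCat.of S I) (ModuleCat.of S G) 1, e = 0 := by
    intro e
    have hsc := shortExact_mk I.subtype I.mkQ (Submodule.injective_subtype I) (Submodule.mkQ_surjective I)
      (LinearMap.exact_subtype_mkQ I)
    obtain ⟨x₂, hx₂⟩ := Ext.contravariant_sequence_exact₁ hsc (ModuleCat.of S G) e (n₁ := 2) rfl
      (@Subsingleton.elim _ (hQ 2 (by norm_num)) _ _)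
    haveI : Projective (ShortComplex.moduleCatMk I.subtype I.mkQ
        (LinearMap.ext fun x => (LinearMap.exact_subtype_mkQ I).apply_apply_eq_zero x)).X₂ :=
      (IsProjective.iff_projective (R := S) S).1 inferInstance
    rw [← hx₂, Ext.eq_zero_of_projective x₂]
    exact Ext.comp_zero (Ext.mk₀ (ModuleCat.ofHom I.subtype)) _ _ _ _
  have hM : ∀ e : Ext (ModuleCat.of S M) (ModuleCat.of S G) 1, e = 0 := by
    intro e
    have hsc := shortExact_mk (LinearMap.ker φ).subtype φ.rangeRestrict (Submodule.injective_subtype _)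
      φ.surjective_rangeRestrict (fun x => ⟨fun h => ⟨⟨x, LinearMap.mem_ker.2 (congrArg Subtype.val h)⟩, rfl⟩,
        fun ⟨z, hz⟩ => hz ▸ Subtype.ext (LinearMap.mem_ker.1 z.2)⟩)
    obtain ⟨x₃, hx₃⟩ := Ext.contravariant_sequence_exact₂ hsc (ModuleCat.of S G) e
      (@Subsingleton.elim _ (hK 1 (by norm_num)) _ _)
    rw [← hx₃, hI x₃]
    exact Ext.comp_zero (Ext.mk₀ (ModuleCat.ofHom φ.rangeRestrict)) _ _ _ _
  have hsc := shortExact_mk ι π hι hπ hex
  obtain ⟨x₂, hx₂⟩ := Ext.contravariant_sequence_exact₁ hsc (ModuleCat.of S G)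
    (Ext.mk₀ (𝟙 (ModuleCat.of S G))) (n₁ := 1) rfl (hM _)
  obtain ⟨r, rfl⟩ : ∃ r : ModuleCat.of S E ⟶ ModuleCat.of S G, Ext.mk₀ r = x₂ :=
    ⟨Ext.homEquiv₀ x₂, Ext.mk₀_homEquiv₀_apply x₂⟩
  have h := (Ext.mk₀_bijective _ _).1 ((Ext.mk₀_comp_mk₀ (ModuleCat.ofHom ι) r).symm.trans hx₂)
  exact ⟨r.hom, fun g => congrArg (fun f : ModuleCat.of S G ⟶ ModuleCat.of S G => f g) h⟩

end GrothLib.RamSam
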