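import Groth.Agent.Lib.RamSam.Depth2
import Groth.Agent.Lib.Punctured.CoherentCohom
import Groth.Agent.Lib.ParaPair.Local
import Groth.Agent.Lib.ZClos.Basic
import Groth.Agent.Lib.Euler.AmpleCurve

/-!
# Invertible modules on a punctured spectrum, in terms of modules
-/

set_option autoImplicit false
set_option linter.style.haveILetI false
set_option backward.isDefEq.respectTransparency false

universe u

open CategoryTheory AlgebraicGeometry TopologicalSpace Opposite

namespace GrothLib.RamSam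

variable {R : CommRingCat.{u}}

/-- A generating section over `D(s)` gives a generator after inverting `s`. -/
theorem exists_genAt (M : ModuleCat.{u} R) (s : R)
    (e : Γ(tilde M, (PrimeSpectrum.basicOpen s : (Spec R).Opens)))
    (he : Function.Bijective fun c : Γ(Spec R, (PrimeSpectrum.basicOpen s : (Spec R).Opens)) => c • e) :
    ∃ m : M, GenAt m s := by
  let D : (Spec R).Opens := PrimeSpectrum.basicOpen s
  let O := Γ(Spec R, D)
  let T : M →ₗ[R] Γ(tilde M, D) := (tilde.toOpen M D).hom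
  haveI : IsLocalizedModule (.powers s) T :=
    (inferInstance : IsLocalizedModule.Away s (tilde.toOpen M (PrimeSpectrum.basicOpen s)).hom)
  haveI : IsLocalization.Away s O := StructureSheaf.IsLocalization.to_basicOpen R s
  obtain ⟨⟨m, ⟨_, k, rfl⟩⟩, hm⟩ := IsLocalizedModule.surj (.powers s) T e
  have hm' : s ^ k • e = T m := hm
  refine ⟨m, fun x => ?_, fun b hb => ?_⟩
  · obtain ⟨a, ha⟩ := he.2 (T x)
    obtain ⟨⟨b, ⟨_, j, rfl⟩⟩, hb⟩ := IsLocalization.surj (Submonoid.powers s) a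
    have hb' : (algebraMap R O (s ^ j)) * a = algebraMap R O b := by rw [mul_comm]; exact hb
    have h1 : s ^ j • T x = b • e := by
      rw [← ha, ← IsScalarTower.algebraMap_smul O (s ^ j), ← IsScalarTower.algebraMap_smul O b, smul_smul, hb']
    have h2 : T (s ^ (j + k) • x) = T (b • m) := by
      rw [map_smul, map_smul, ← hm', pow_add, mul_comm, mul_smul, h1, smul_comm]
    obtain ⟨⟨_, i, rfl⟩, hi⟩ := (IsLocalizedModule.eq_iff_exists (.powers s) T).1 h2
    refine ⟨i + (j + k), s ^ i * b, ?_⟩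
    have hi' : s ^ i • s ^ (j + k) • x = s ^ i • b • m := hi
    rw [pow_add, mul_smul, mul_smul]
    exact hi'
  · have h0 : (algebraMap R O (b * s ^ k)) • e = (0 : O) • e := by
      rw [zero_smul, IsScalarTower.algebraMap_smul, mul_smul, hm', ← map_smul, hb, map_zero]
    obtain ⟨⟨_, i, rfl⟩, hi⟩ := (IsLocalization.map_eq_zero_iff (Submonoid.powers s) O _).1 (he.1 h0)
    refine ⟨i + k, ?_⟩
    rw [← hi, pow_add]
    ring

/-- A functional invertible at a generator is bijective on a smaller basic open. -/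
theorem app_bijective_of_genAt {M : ModuleCat.{u} R} (ψ : M →ₗ[R] R) {m : M} {s : R}
    (h : GenAt m s) (r : R) :
    Function.Bijective ((tilde.map (ModuleCat.ofHom ψ)).app
      (PrimeSpectrum.basicOpen (r * (s * ψ m)) : (Spec R).Opens)) := by
  set t : R := r * (s * ψ m) with ht
  let ψh : M ⟶ ModuleCat.of R R := ModuleCat.ofHom ψ
  let D : (Spec R).Opens := PrimeSpectrum.basicOpen t
  let T : M →ₗ[R] Γ(tilde M, D) := (tilde.toOpen M D).hom
  let T' : R →ₗ[R] Γ(tilde (ModuleCat.of R R), D) := (tilde.toOpen (ModuleCat.of R R) D).hom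
  haveI : IsLocalizedModule (.powers t) T :=
    (inferInstance : IsLocalizedModule.Away t (tilde.toOpen M (PrimeSpectrum.basicOpen t)).hom)
  have inst : ∀ (N : ModuleCat.{u} R) (f : R),
      IsLocalizedModule (.powers f) (tilde.toOpen N (PrimeSpectrum.basicOpen f)).hom := fun _ _ => inferInstance
  haveI : IsLocalizedModule (.powers t) T' := inst (ModuleCat.of R R) t
  let Ψ : Γ(tilde M, D) →ₗ[R] Γ(tilde (ModuleCat.of R R), D) :=
    ((modulesSpecToSheaf.map (tilde.map ψh)).1.app (op D)).hom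
  have hΨ : ∀ x, Ψ (T x) = T' (ψ x) := fun x => ConcreteCategory.congr_hom (tilde.toOpen_map_app ψh D) x
  have hcancel : ∀ (n : ℕ) (z : Γ(tilde (ModuleCat.of R R), D)), t ^ n • z = 0 → z = 0 := fun n z hz =>
    ((Module.End.isUnit_iff _).1 (IsLocalizedModule.map_units T' (⟨t ^ n, ⟨n, rfl⟩⟩ : Submonoid.powers t))).1
      (hz.trans (smul_zero (t ^ n)).symm)
  have hcancel' : ∀ (n : ℕ) (z : Γ(tilde M, D)), t ^ n • z = 0 → z = 0 := fun n z hz =>
    ((Module.End.isUnit_iff _).1 (IsLocalizedModule.map_units T (⟨t ^ n, ⟨n, rfl⟩⟩ : Submonoid.powers t))).1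
      (hz.trans (smul_zero (t ^ n)).symm)
  show Function.Bijective Ψ
  refine ⟨(injective_iff_map_eq_zero Ψ).2 fun z hz => ?_, fun w => ?_⟩
  · obtain ⟨⟨x, ⟨_, n, rfl⟩⟩, hx⟩ := IsLocalizedModule.surj (.powers t) T z
    have hx' : t ^ n • z = T x := hx
    have h1 : T' (ψ x) = 0 := by rw [← hΨ, ← hx', map_smul, hz, smul_zero]
    obtain ⟨⟨_, i, rfl⟩, hi⟩ := (IsLocalizedModule.eq_zero_iff (.powers t) T').1 h1
    have hi' : t ^ i * ψ x = 0 := hi
    obtain ⟨k, b, hkb⟩ := h.1 (t ^ i • x)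
    have hb : b * ψ m = 0 := by
      have := congrArg ψ hkb
      rw [map_smul, map_smul, map_smul, smul_eq_mul, smul_eq_mul, smul_eq_mul, hi', mul_zero] at this
      exact this.symm
    have hkill : t ^ (k + 1 + i) • x = 0 := by
      rw [pow_add, mul_smul, show t ^ (k + 1) = (r ^ (k + 1) * s * ψ m ^ k) * ψ m * s ^ k by rw [ht]; ring,
        mul_smul, hkb, smul_smul, mul_assoc, mul_comm (ψ m) b, hb, mul_zero, zero_smul]
    refine hcancel' (k + 1 + i + n) z ?_
    rw [pow_add, mul_smul, hx', ← map_smul, hkill, map_zero]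
  · obtain ⟨⟨b, ⟨_, n, rfl⟩⟩, hb⟩ := IsLocalizedModule.surj (.powers t) T' w
    have hb' : t ^ n • w = T' b := hb
    have hu := (Module.End.isUnit_iff _).1 (IsLocalizedModule.map_units T (⟨t ^ (n + 1), ⟨n + 1, rfl⟩⟩ : Submonoid.powers t))
    obtain ⟨z, hz⟩ := hu.2 (T ((r * s * b) • m))
    refine ⟨z, sub_eq_zero.1 (hcancel (n + 1) _ ?_)⟩
    have hz' : t ^ (n + 1) • z = T ((r * s * b) • m) := hz
    rw [smul_sub, sub_eq_zero, show t ^ (n + 1) • Ψ z = T' (ψ ((r * s * b) • m)) by rw [← map_smul, hz', hΨ],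
      show t ^ (n + 1) • w = t • T' b by rw [pow_succ', mul_smul, hb'],
      show t • T' b = T' (t * b) from (map_smul T' t b).symm]
    congr 1
    rw [map_smul, ht, smul_eq_mul]
    ring

/-- An invertible module on the punctured spectrum is trivial if a module presenting it is free there. -/
theorem picTrivial_of_iso (S : Type u) [CommRing S] [IsLocalRing S] [IsNoetherianRing S]
    (L : (FEt.puncturedSpec S : Scheme.{u}).Modules) (hL : PicF.IsInvertible L)
    (h : ∀ (M : Type u) [AddCommGroup M] [Module S M] [Module.Finite S M],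
      (∀ P : Ideal S, P.IsPrime → P ≠ IsLocalRing.maximalIdeal S → ∃ (m : M) (s : S), s ∉ P ∧ GenAt m s) →
      ((Scheme.Modules.restrictFunctor (FEt.puncturedSpec S).ι).obj
        (tilde (R := CommRingCat.of S) (ModuleCat.of (CommRingCat.of S) M)) ≅ L) →
      ∃ ψ : M →ₗ[S] S, ∀ P : Ideal S, P.IsPrime → P ≠ IsLocalRing.maximalIdeal S →
        ∃ (m : M) (s : S), s ∉ P ∧ GenAt m s ∧ ψ m ∉ P) :
    Nonempty (L ≅ Coh.structureModule _) := by
  haveI : IsNoetherianRing (CommRingCat.of S) := inferInstanceAs (IsNoetherianRing S)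
  let U := FEt.puncturedSpec S
  haveI : IsLocallyNoetherian (U : Scheme.{u}) := isLocallyNoetherian_of_isOpenImmersion U.ι
  obtain ⟨M, hMf, ⟨e⟩⟩ := Punctured.exists_finite_restrict_tilde_iso U L (Euler.isCoh_of_isInvertible hL)
  haveI : Module.Finite S M := hMf
  have hN : PicF.IsInvertible ((Scheme.Modules.restrictFunctor U.ι).obj (tilde M)) :=
    ParaPair.isInvertible_of_iso e hL
  have hmem : ∀ P : Spec (CommRingCat.of S), P ∈ U ↔ P.asIdeal ≠ IsLocalRing.maximalIdeal S := fun P => by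
    show P ∉ ({IsLocalRing.closedPoint S} : Set (PrimeSpectrum S)) ↔ _
    exact not_congr (Set.mem_singleton_iff.trans PrimeSpectrum.ext_iff)
  have hgen : ∀ P : Ideal S, P.IsPrime → P ≠ IsLocalRing.maximalIdeal S →
      ∃ (m : M) (s : S), s ∉ P ∧ GenAt m s := by
    intro P hP hne
    let y : (U : Scheme.{u}) := ⟨⟨P, hP⟩, (hmem ⟨P, hP⟩).2 hne⟩
    obtain ⟨V, ε, hyV, hε⟩ := ParaPair.isInvertible_iff.1 hN y
    obtain ⟨_, ⟨s, rfl⟩, hys, hsV⟩ := PrimeSpectrum.isTopologicalBasis_basic_opens.exists_subset_of_mem_open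
      (show y.1 ∈ ((U.ι ''ᵁ V : (Spec (CommRingCat.of S)).Opens) : Set _) from ⟨y, hyV, rfl⟩) (U.ι ''ᵁ V).isOpen
    let D : (Spec (CommRingCat.of S)).Opens := PrimeSpectrum.basicOpen s
    let W : (U : Scheme.{u}).Opens := U.ι ⁻¹ᵁ D
    have hWV : W ≤ V := fun w hw => by
      obtain ⟨v, hv, hvw⟩ := hsV (show w.1 ∈ _ from hw)
      exact (Subtype.ext hvw : v = w) ▸ hv
    have hWD : U.ι ''ᵁ W = D := by
      refine le_antisymm (U.ι.image_preimage_le D) fun z hz => ?_
      obtain ⟨v, hv, rfl⟩ := hsV hz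
      exact ⟨v, hz, rfl⟩
    have key : ∀ (V₁ : (Spec (CommRingCat.of S)).Opens), U.ι ''ᵁ W = V₁ → ∃ e₁ : Γ(tilde M, V₁),
        Function.Bijective fun c : Γ(Spec (CommRingCat.of S), V₁) => c • e₁ := by
      rintro _ rfl
      refine ⟨InvExt.mres ((Scheme.Modules.restrictFunctor U.ι).obj (tilde M)) hWV ε, ?_⟩
      exact (Function.Bijective.of_comp_iff
        (f := fun c : Γ(Spec (CommRingCat.of S), U.ι ''ᵁ W) => c •
          (show Γ(tilde M, U.ι ''ᵁ W) from InvExt.mres ((Scheme.Modules.restrictFunctor U.ι).obj (tilde M)) hWV ε))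
        (ConcreteCategory.bijective_of_isIso (U.ι.appIso W).inv)).1 (hε W hWV)
    obtain ⟨e₁, he₁⟩ := key D hWD
    obtain ⟨m, hm⟩ := exists_genAt M s e₁ he₁
    exact ⟨m, s, hys, hm⟩
  obtain ⟨ψ, hψ⟩ := h M hgen e
  let ψl : M →ₗ[(CommRingCat.of S)] (CommRingCat.of S) := ψ
  let ψ' : M ⟶ ModuleCat.of (CommRingCat.of S) (CommRingCat.of S) := ModuleCat.ofHom ψl
  let Ψ := (Scheme.Modules.restrictFunctor U.ι).map (tilde.map ψ')
  haveI : IsIso Ψ := by
    refine GrothLib.ZClosure.isIso_of_basis Ψ fun y V hyV => ?_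
    obtain ⟨m, s, hs, hm, hψm⟩ := hψ y.1.asIdeal y.1.2 ((hmem y.1).1 y.2)
    obtain ⟨_, ⟨r, rfl⟩, hyr, hrV⟩ := PrimeSpectrum.isTopologicalBasis_basic_opens.exists_subset_of_mem_open
      (show y.1 ∈ ((U.ι ''ᵁ V : (Spec (CommRingCat.of S)).Opens) : Set _) from ⟨y, hyV, rfl⟩) (U.ι ''ᵁ V).isOpen
    let D : (Spec (CommRingCat.of S)).Opens := PrimeSpectrum.basicOpen (r * (s * ψl m))
    have hDr : D ≤ U.ι ''ᵁ V := fun z hz => hrV (PrimeSpectrum.basicOpen_mul_le_left r _ hz)
    let W : (U : Scheme.{u}).Opens := U.ι ⁻¹ᵁ D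
    have hyD : y.1 ∈ D := fun hmem' => (y.1.2.mem_or_mem hmem').elim hyr fun h2 => (y.1.2.mem_or_mem h2).elim hs hψm
    have hWV : W ≤ V := fun w hw => by
      obtain ⟨v, hv, hvw⟩ := hDr (show w.1 ∈ D from hw)
      exact (Subtype.ext hvw : v = w) ▸ hv
    have hWD : U.ι ''ᵁ W = D := by
      refine le_antisymm (U.ι.image_preimage_le D) fun z hz => ?_
      obtain ⟨v, hv, rfl⟩ := hDr hz
      exact ⟨v, hz, rfl⟩
    refine ⟨W, hyD, hWV, ?_⟩
    have key : ∀ (V₁ : (Spec (CommRingCat.of S)).Opens), U.ι ''ᵁ W = V₁ →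
        Function.Bijective ((tilde.map ψ').app V₁) → Function.Bijective (Ψ.app W) := by
      rintro _ rfl hb
      exact hb
    exact key D hWD (app_bijective_of_genAt ψl hm r)
  exact ⟨e.symm ≪≫ asIso Ψ ≪≫ (Scheme.Modules.restrictFunctor U.ι).mapIso tildeSelf ≪≫
    Scheme.Modules.restrictUnitIso _⟩

/-- The Picard group of the punctured spectrum is trivial if modules free of rank one there are free there. -/
theorem picTrivial_of (S : Type u) [CommRing S] [IsLocalRing S] [IsNoetherianRing S]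
    (h : ∀ (M : Type u) [AddCommGroup M] [Module S M] [Module.Finite S M],
      (∀ P : Ideal S, P.IsPrime → P ≠ IsLocalRing.maximalIdeal S → ∃ (m : M) (s : S), s ∉ P ∧ GenAt m s) →
      ∃ ψ : M →ₗ[S] S, ∀ P : Ideal S, P.IsPrime → P ≠ IsLocalRing.maximalIdeal S →
        ∃ (m : M) (s : S), s ∉ P ∧ GenAt m s ∧ ψ m ∉ P) :
    ParaF.PicTrivial (FEt.puncturedSpec S : Scheme.{u}) := fun L hL =>
  picTrivial_of_iso S L hL fun M _ _ _ hM _ => h M hM

end GrothLib.RamSam
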