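import Groth.Agent.Lib.RamSam.GrFree
import Groth.Agent.Lib.RamSam.PunctBridge
import Groth.Agent.Lib.Depth.Hartogs
import Mathlib.RingTheory.Regular.Flat

/-!
# From sheaves to modules on punctured spectra
-/

set_option autoImplicit false
set_option linter.style.haveILetI false
set_option backward.isDefEq.respectTransparency false

universe u

open CategoryTheory AlgebraicGeometry TopologicalSpace Opposite
open scoped TensorProduct

namespace GrothLib.RamSam

/-- A lower bound for the depth from a weakly regular sequence. -/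
theorem le_depth_of_regular_seq {R : Type u} [CommRing R] [IsLocalRing R] (rs : List R) (n : ℕ)
    (hn : rs.length = n) (hm : ∀ r ∈ rs, r ∈ IsLocalRing.maximalIdeal R)
    (h : RingTheory.Sequence.IsWeaklyRegular R rs) : (n : ℕ∞) ≤ LocCoh.depth R R := by
  have hne : IsLocalRing.maximalIdeal R • (⊤ : Submodule R R) ≠ ⊤ := by
    rw [smul_eq_mul, Ideal.mul_top]
    exact (IsLocalRing.maximalIdeal.isMaximal R).ne_top
  exact (Depth.le_idealDepth_iff_exists (IsLocalRing.maximalIdeal R) hne n).2 ⟨rs, hn, hm, h⟩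

/-- In depth two functions on the punctured spectrum extend. -/
theorem bijective_res_of_depth_two (A : Type u) [CommRing A] [IsLocalRing A] [IsNoetherianRing A]
    (hd : (2 : ℕ∞) ≤ LocCoh.depth A A) :
    Function.Bijective ((Spec (CommRingCat.of A)).presheaf.map
      (homOfLE (le_top : FEt.puncturedSpec A ≤ ⊤)).op) := by
  have : IsNoetherianRing (CommRingCat.of A) := inferInstanceAs (IsNoetherianRing A)
  have hne : IsLocalRing.maximalIdeal A • (⊤ : Submodule A A) ≠ ⊤ := by
    rw [smul_eq_mul, Ideal.mul_top]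
    exact (IsLocalRing.maximalIdeal.isMaximal A).ne_top
  obtain ⟨rs, hlen, hm, h⟩ := (Depth.le_idealDepth_iff_exists (IsLocalRing.maximalIdeal A) hne 2).1 hd
  have hU : Depth.DepthTwoOutside (X := Spec (CommRingCat.of A)) (FEt.puncturedSpec A) := by
    intro x hx
    have hx' : x = IsLocalRing.closedPoint A := by
      by_contra hne'
      exact hx hne'
    subst hx'
    let S := (Spec (CommRingCat.of A)).presheaf.stalk (IsLocalRing.closedPoint A)
    let : Algebra A S := (StructureSheaf.toStalk A (IsLocalRing.closedPoint A)).hom.toAlgebra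
    have : IsLocalization (IsLocalRing.closedPoint A).asIdeal.primeCompl S :=
      StructureSheaf.IsLocalization.to_stalk A (IsLocalRing.closedPoint A)
    have : Module.Flat A S := IsLocalization.flat S (IsLocalRing.closedPoint A).asIdeal.primeCompl
    refine le_depth_of_regular_seq (rs.map (algebraMap A S)) 2 (by simpa using hlen) ?_ (h.of_flat)
    intro r hr
    obtain ⟨a, ha, rfl⟩ := List.mem_map.1 hr
    exact ((IsLocalization.AtPrime.to_map_mem_maximal_iff S (IsLocalRing.closedPoint A).asIdeal a).2 (hm a ha))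
  exact (ParaPair.bijective_fres_congr (X := Spec (CommRingCat.of A)) _ _ (top_inf_eq _)).1 (Depth.res_bijective hU ⊤)

/-- Multiplying the denominator of a generator. -/
theorem genAt_mul {B M : Type u} [CommRing B] [AddCommGroup M] [Module B M] {m : M} {s : B} (h : GenAt m s)
    (t : B) : GenAt m (s * t) := by
  refine ⟨fun x => ?_, fun b hb => ?_⟩
  · obtain ⟨k, c, hc⟩ := h.1 x
    exact ⟨k, t ^ k * c, by rw [mul_pow, mul_comm (s ^ k), mul_smul, hc, smul_smul]⟩
  · obtain ⟨k, hk⟩ := h.2 b hb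
    exact ⟨k, by rw [mul_pow, mul_right_comm, hk, zero_mul]⟩

/-- A module free of rank one off the closed point gives an invertible sheaf on the punctured spectrum. -/
theorem isInvertible_restrict_tilde {S : Type u} [CommRing S] [IsLocalRing S] [IsNoetherianRing S]
    (M : Type u) [AddCommGroup M] [Module S M] [Module.Finite S M] (hM : GenPunct S M) :
    PicF.IsInvertible ((Scheme.Modules.restrictFunctor (FEt.puncturedSpec S).ι).obj
      (tilde (R := CommRingCat.of S) (ModuleCat.of (CommRingCat.of S) M))) := by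
  refine ParaPair.isInvertible_iff.2 fun y => ParaPair.genNear_of_push (FEt.puncturedSpec S).ι
    ((ParaPair.genNear_unit_iff (FEt.puncturedSpec S).ι _ ⟨y, rfl⟩).2 ?_)
  obtain ⟨m, s, hs, hm⟩ := hM y.1.asIdeal y.1.2 fun h => y.2 (PrimeSpectrum.ext h)
  obtain ⟨φ, k, hφ⟩ := exists_functional hm
  let φl : ModuleCat.of (CommRingCat.of S) M →ₗ[(CommRingCat.of S)] (CommRingCat.of S) := φ
  let D : (Spec (CommRingCat.of S)).Opens := PrimeSpectrum.basicOpen (s * φ m)
  have hyD : y.1 ∈ D := fun h => (y.1.2.mem_or_mem h).elim hs fun h' =>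
    hs (y.1.2.mem_of_pow_mem _ (hφ ▸ h'))
  let Ψ := (Scheme.Modules.restrictFunctor D.ι).map (tilde.map (ModuleCat.ofHom φl))
  haveI : IsIso Ψ := by
    refine GrothLib.ZClosure.isIso_of_basis Ψ fun z V hzV => ?_
    obtain ⟨_, ⟨r, rfl⟩, hzr, hrV⟩ := PrimeSpectrum.isTopologicalBasis_basic_opens.exists_subset_of_mem_open
      (show z.1 ∈ ((D.ι ''ᵁ V : (Spec (CommRingCat.of S)).Opens) : Set _) from ⟨z, hzV, rfl⟩) (D.ι ''ᵁ V).isOpen
    let D' : (Spec (CommRingCat.of S)).Opens := PrimeSpectrum.basicOpen (r * (s * φ m))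
    have hzD : z.1 ∈ D' := fun h => (z.1.2.mem_or_mem h).elim hzr z.2
    have hDr : D' ≤ D.ι ''ᵁ V := fun w hw => hrV (PrimeSpectrum.basicOpen_mul_le_left r _ hw)
    let W : (D : Scheme.{u}).Opens := D.ι ⁻¹ᵁ D'
    have hWV : W ≤ V := fun w hw => by
      obtain ⟨v, hv, hvw⟩ := hDr (show w.1 ∈ D' from hw)
      exact (Subtype.ext hvw : v = w) ▸ hv
    have hWD : D.ι ''ᵁ W = D' := by
      refine le_antisymm (D.ι.image_preimage_le D') fun w hw => ?_
      obtain ⟨v, hv, rfl⟩ := hDr hw
      exact ⟨v, hw, rfl⟩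
    refine ⟨W, hzD, hWV, ?_⟩
    have key : ∀ (V₁ : (Spec (CommRingCat.of S)).Opens), D.ι ''ᵁ W = V₁ →
        Function.Bijective ((tilde.map (ModuleCat.ofHom φl)).app V₁) → Function.Bijective (Ψ.app W) := by
      rintro _ rfl hb
      exact hb
    exact key D' hWD (app_bijective_of_genAt φl hm r)
  refine ParaPair.genNear_of_bijective (tilde.map (ModuleCat.ofHom φl)) hyD (fun T hT => ?_)
    (ParaPair.genNear_of_iso tildeSelf (ParaPair.isInvertible_iff.1 (ParaPair.isInvertible_structure _) _))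
  have key : ∀ (V₁ : (Spec (CommRingCat.of S)).Opens), D.ι ''ᵁ (D.ι ⁻¹ᵁ T) = V₁ →
      Function.Bijective ((tilde.map (ModuleCat.ofHom φl)).app V₁) := by
    rintro _ rfl
    exact ZClosure.app_bijective_of_isIso Ψ (D.ι ⁻¹ᵁ T)
  exact key T (by rw [Scheme.Hom.image_preimage_eq_opensRange_inf, Scheme.Opens.opensRange_ι, inf_eq_right.2 hT])

/-- A map to the ring which is surjective over `D(s)` takes a power of `s` as a value. -/
theorem exists_pow_of_app_surjective {R : CommRingCat.{u}} {M : ModuleCat.{u} R} (ψ : M ⟶ ModuleCat.of R R) (s : R)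
    (h : Function.Surjective ((tilde.map ψ).app (PrimeSpectrum.basicOpen s : (Spec R).Opens))) :
    ∃ (x : M) (n : ℕ), ψ x = s ^ n := by
  let D : (Spec R).Opens := PrimeSpectrum.basicOpen s
  let T : M →ₗ[R] Γ(tilde M, D) := (tilde.toOpen M D).hom
  let T' : R →ₗ[R] Γ(tilde (ModuleCat.of R R), D) := (tilde.toOpen (ModuleCat.of R R) D).hom
  haveI : IsLocalizedModule (.powers s) T :=
    (inferInstance : IsLocalizedModule.Away s (tilde.toOpen M (PrimeSpectrum.basicOpen s)).hom)
  have inst : ∀ (N : ModuleCat.{u} R) (f : R),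
      IsLocalizedModule (.powers f) (tilde.toOpen N (PrimeSpectrum.basicOpen f)).hom := fun _ _ => inferInstance
  haveI : IsLocalizedModule (.powers s) T' := inst (ModuleCat.of R R) s
  let Ψ : Γ(tilde M, D) →ₗ[R] Γ(tilde (ModuleCat.of R R), D) :=
    ((modulesSpecToSheaf.map (tilde.map ψ)).1.app (op D)).hom
  have hΨ : ∀ x, Ψ (T x) = T' (ψ x) := fun x => ConcreteCategory.congr_hom (tilde.toOpen_map_app ψ D) x
  obtain ⟨z, hz⟩ := h (T' (1 : R))
  have hz' : Ψ z = T' (1 : R) := hz
  obtain ⟨⟨x, ⟨_, n, rfl⟩⟩, hx⟩ := IsLocalizedModule.surj (.powers s) T z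
  have hx' : s ^ n • z = T x := hx
  have h1 : T' (ψ x) = T' (s ^ n) := by
    rw [← hΨ, ← hx', map_smul, hz', ← map_smul]
    congr 1
    exact mul_one _
  obtain ⟨⟨_, i, rfl⟩, hi⟩ := (IsLocalizedModule.eq_iff_exists (.powers s) T').1 h1
  have hi' : s ^ i • ψ x = s ^ i • (s ^ n : R) := hi
  refine ⟨s ^ i • x, i + n, ?_⟩
  rw [pow_add]
  exact (map_smul ψ.hom (s ^ i) x).trans hi'

/-- An isomorphism on the punctured spectrum gives a functional bijective there. -/
theorem exists_isTrivPunct_of_iso {S : Type u} [CommRing S] [IsLocalRing S] [IsNoetherianRing S]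
    (hd : (2 : ℕ∞) ≤ LocCoh.depth S S)
    (M : Type u) [AddCommGroup M] [Module S M] (hM : GenPunct S M)
    (Θ : (Scheme.Modules.restrictFunctor (FEt.puncturedSpec S).ι).obj
      (tilde (R := CommRingCat.of S) (ModuleCat.of (CommRingCat.of S) M)) ≅ Coh.structureModule _) :
    ∃ ψ : M →ₗ[S] S, IsTrivPunct S ψ := by
  let U := FEt.puncturedSpec S
  have hA : ParaPair.SecBij U.ι.opensRange := by
    rw [Scheme.Opens.opensRange_ι]
    exact (ParaPair.secBij_closedPt_iff S).2 (bijective_res_of_depth_two S hd)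
  have hinv : PicF.IsInvertible (tilde (R := CommRingCat.of S) (ModuleCat.of (CommRingCat.of S) S)) :=
    ParaPair.isInvertible_of_iso tildeSelf (ParaPair.isInvertible_structure _)
  let Θ' := Θ ≪≫ ((Scheme.Modules.restrictFunctor U.ι).mapIso tildeSelf ≪≫
    Scheme.Modules.restrictUnitIso _).symm
  obtain ⟨h, hh⟩ := (hA.hom_bijective U.ι _ hinv).2 Θ'.hom
  obtain ⟨ψ', rfl⟩ : ∃ ψ', (tilde.functor (CommRingCat.of S)).map ψ' = h :=
    ⟨tilde.fullyFaithfulFunctor.preimage h, tilde.fullyFaithfulFunctor.map_preimage h⟩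
  let ψ : M →ₗ[S] S := ψ'.hom
  refine ⟨ψ, fun P hP hne => ?_⟩
  obtain ⟨m, s₀, hs₀, hm₀⟩ := hM P hP hne
  obtain ⟨t, htm, htP⟩ := SetLike.not_le_iff_exists.1
    (fun h => hne ((IsLocalRing.maximalIdeal.isMaximal S).eq_of_le hP.ne_top h).symm)
  let s := s₀ * t
  have hs : s ∉ P := fun h => (hP.mem_or_mem h).elim hs₀ htP
  have hm : GenAt m s := genAt_mul hm₀ t
  refine ⟨m, s, hs, hm, fun hψm => ?_⟩
  let D : (Spec (CommRingCat.of S)).Opens := PrimeSpectrum.basicOpen s
  have hDU : D ≤ U.ι.opensRange := by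
    rw [Scheme.Opens.opensRange_ι]
    intro z hz hzc
    refine hz ?_
    rw [show z = IsLocalRing.closedPoint S from hzc]
    exact Ideal.mul_mem_left _ _ htm
  haveI : IsIso ((Scheme.Modules.restrictFunctor U.ι).map ((tilde.functor _).map ψ')) := by
    rw [show (Scheme.Modules.restrictFunctor U.ι).map ((tilde.functor _).map ψ') = Θ'.hom from hh]
    infer_instance
  have key : ∀ (V₁ : (Spec (CommRingCat.of S)).Opens), U.ι ''ᵁ (U.ι ⁻¹ᵁ D) = V₁ →
      Function.Bijective ((tilde.map ψ').app V₁) := by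
    rintro _ rfl
    exact ZClosure.app_bijective_of_isIso ((Scheme.Modules.restrictFunctor U.ι).map ((tilde.functor _).map ψ'))
      (U.ι ⁻¹ᵁ D)
  have hb := key D (by rw [Scheme.Hom.image_preimage_eq_opensRange_inf, inf_eq_right.2 hDU])
  obtain ⟨x, n, hx⟩ := exists_pow_of_app_surjective ψ' s hb.2
  have hi' : ψ x = s ^ n := hx
  obtain ⟨k, b, hkb⟩ := hm.1 x
  have h2 : s ^ k * ψ x = b * ψ m := by
    have := congrArg ψ hkb
    rwa [map_smul, map_smul] at this
  refine hs (hP.mem_of_pow_mem (k + n) ?_)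
  rw [pow_add, ← hi', h2]
  exact P.mul_mem_left _ hψm

/-- Triviality of the punctured Picard group gives triviality for modules. -/
theorem moduleTriv_of_picTrivial {S : Type u} [CommRing S] [IsLocalRing S] [IsNoetherianRing S]
    (hd : (2 : ℕ∞) ≤ LocCoh.depth S S)
    (h : ∀ L : (FEt.puncturedSpec S : Scheme.{u}).Modules, PicF.IsInvertible L → Nonempty (L ≅ Coh.structureModule _)) :
    ModuleTriv S := fun M _ _ _ hM =>
  (h _ (isInvertible_restrict_tilde M hM)).elim fun Θ => exists_isTrivPunct_of_iso hd M hM Θ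

/-- Punctured Picard triviality from the quotient by an ideal with free graded pieces. -/
theorem picTrivial_of_grFree {B : Type u} [CommRing B] [IsLocalRing B] [IsNoetherianRing B] (J : Ideal B)
    [IsLocalRing (B ⧸ J)] (hd : (3 : ℕ∞) ≤ LocCoh.depth (B ⧸ J) (B ⧸ J))
    (hgr : ∀ n : ℕ, Module.Free (B ⧸ J) (↥(J ^ n) ⧸ (J • (⊤ : Submodule B ↥(J ^ n)))))
    (h : ∀ L : (FEt.puncturedSpec (B ⧸ J) : Scheme.{u}).Modules, PicF.IsInvertible L →
      Nonempty (L ≅ Coh.structureModule _)) :
    ParaF.PicTrivial (FEt.puncturedSpec B : Scheme.{u}) := by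
  have ht := moduleTriv_of_picTrivial (S := B ⧸ J) (le_trans (by norm_num) hd) h
  refine picTrivial_of B fun M _ _ _ hM => ?_
  haveI : Module.Finite (B ⧸ J) (M ⧸ J • (⊤ : Submodule B M)) :=
    Module.Finite.of_restrictScalars_finite B (B ⧸ J) _
  haveI : Module.Finite (B ⧸ J) ((M →ₗ[B] B) ⧸ J • (⊤ : Submodule B (M →ₗ[B] B))) :=
    Module.Finite.of_restrictScalars_finite B (B ⧸ J) _
  exact moduleTriv_of_grFree J hd hgr M hM (ht _ (genPunct_quotient J hM))
    fun h' => ht _ (genPunct_quotient J h')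

/-- Membership in `I • ⊤` inside a quotient by a submodule. -/
theorem mk_mem_smul_top_iff {R : Type u} [CommRing R] {M : Type u} [AddCommGroup M] [Module R M]
    (K : Submodule R M) (I : Ideal R) (y : M) :
    Submodule.Quotient.mk y ∈ I • (⊤ : Submodule R (M ⧸ K)) ↔ y ∈ I • (⊤ : Submodule R M) ⊔ K := by
  rw [← Submodule.range_mkQ K, ← Submodule.map_top, ← Submodule.map_smul'', ← Submodule.mkQ_apply,
    ← Submodule.mem_comap, Submodule.comap_map_mkQ, sup_comm]

/-- Depth lifts along an ideal with free graded pieces. -/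
theorem le_depth_of_grFree {B : Type u} [CommRing B] [IsLocalRing B] [IsNoetherianRing B] (J : Ideal B)
    [IsLocalRing (B ⧸ J)] (hJ : J ≠ ⊤)
    (hgr : ∀ n : ℕ, Module.Free (B ⧸ J) (↥(J ^ n) ⧸ (J • (⊤ : Submodule B ↥(J ^ n)))))
    {n : ℕ} (hd : (n : ℕ∞) ≤ LocCoh.depth (B ⧸ J) (B ⧸ J)) : (n : ℕ∞) ≤ LocCoh.depth B B := by
  have hne : IsLocalRing.maximalIdeal (B ⧸ J) • (⊤ : Submodule (B ⧸ J) (B ⧸ J)) ≠ ⊤ := by
    rw [smul_eq_mul, Ideal.mul_top]
    exact (IsLocalRing.maximalIdeal.isMaximal _).ne_top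
  obtain ⟨rs₀, hlen₀, hmem₀, hreg₀⟩ :=
    (Depth.le_idealDepth_iff_exists (IsLocalRing.maximalIdeal (B ⧸ J)) hne n).1 hd
  choose f hf using Ideal.Quotient.mk_surjective (I := J)
  let rs := rs₀.map f
  have hmap : rs.map (algebraMap B (B ⧸ J)) = rs₀ := by
    rw [List.map_map]
    exact List.map_id'' (fun x => hf x) rs₀
  have hmem : ∀ r ∈ rs, r ∈ IsLocalRing.maximalIdeal B := by
    intro r hr
    obtain ⟨x, hx, rfl⟩ := List.mem_map.1 hr
    rw [IsLocalRing.mem_maximalIdeal, mem_nonunits_iff]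
    intro hu
    have := hmem₀ x hx
    rw [IsLocalRing.mem_maximalIdeal, mem_nonunits_iff] at this
    exact this (hf x ▸ hu.map _)
  let I : ℕ → Ideal B := fun i => Ideal.ofList (rs.take i)
  have hgrad : ∀ (k i : ℕ) (hi : i < rs.length), ∀ c ∈ J ^ k, rs[i] * c ∈ I i * J ^ k ⊔ J ^ (k + 1) →
      c ∈ I i * J ^ k ⊔ J ^ (k + 1) := by
    intro k i hi c hc hxc
    haveI := hgr k
    let G := ↥(J ^ k) ⧸ (J • (⊤ : Submodule B ↥(J ^ k)))
    have hG₀ : RingTheory.Sequence.IsWeaklyRegular G rs₀ :=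
      ((TensorProduct.lid (B ⧸ J) G).isWeaklyRegular_congr rs₀).1
        (RingTheory.Sequence.IsWeaklyRegular.isWeaklyRegular_rTensor (M₂ := G) hreg₀)
    have hG : RingTheory.Sequence.IsWeaklyRegular G rs := by
      rw [← RingTheory.Sequence.isWeaklyRegular_map_algebraMap_iff (S := B ⧸ J) G rs, hmap]
      exact hG₀
    have h1 := ((RingTheory.Sequence.isWeaklyRegular_iff_Fin G rs).1 hG ⟨i, hi⟩)
    rw [isSMulRegular_iff_right_eq_zero_of_smul] at h1
    have hiff : ∀ (d : ↥(J ^ k)), (Submodule.Quotient.mk (Submodule.Quotient.mk d : G) :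
        G ⧸ (I i • ⊤ : Submodule B G)) = 0 ↔ d.1 ∈ I i * J ^ k ⊔ J ^ (k + 1) := by
      intro d
      have himg : Submodule.map (J ^ k).subtype (I i • ⊤ ⊔ J • ⊤) = I i * J ^ k ⊔ J ^ (k + 1) := by
        rw [Submodule.map_sup, Submodule.map_smul'', Submodule.map_smul'', Submodule.map_subtype_top,
          smul_eq_mul, smul_eq_mul, ← pow_succ']
      rw [Submodule.Quotient.mk_eq_zero, mk_mem_smul_top_iff, ← himg]
      exact ⟨fun h => ⟨d, h, rfl⟩, fun ⟨e, he, hed⟩ => (Subtype.ext hed : e = d) ▸ he⟩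
    exact (hiff ⟨c, hc⟩).1 (h1 (Submodule.Quotient.mk (Submodule.Quotient.mk ⟨c, hc⟩))
      ((hiff ⟨rs[i] * c, Ideal.mul_mem_left _ _ hc⟩).2 hxc))
  have hquot : ∀ (k i : ℕ) (hi : i < rs.length) (b : B), rs[i] * b ∈ I i ⊔ J ^ k → b ∈ I i ⊔ J ^ k := by
    intro k
    induction k with
    | zero => simp
    | succ k ih =>
      have hint : ∀ i ≤ rs.length, I i ⊓ J ^ k ≤ I i * J ^ k := by
        intro i
        induction i with
        | zero => simp [I]
        | succ i ihi =>
          intro hi y ⟨hy, hyk⟩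
          have hIs : I (i + 1) = I i ⊔ Ideal.span {rs[i]} := by
            simp only [I]
            rw [List.take_succ_eq_append_getElem (Nat.lt_of_succ_le hi), Ideal.ofList_append, Ideal.ofList_singleton]
          rw [hIs] at hy ⊢
          obtain ⟨e, he, z, hz, rfl⟩ := Submodule.mem_sup.1 hy
          obtain ⟨a, rfl⟩ := Ideal.mem_span_singleton'.1 hz
          have ha : a ∈ I i ⊔ J ^ k := ih i (Nat.lt_of_succ_le hi) a (by
            rw [show rs[i] * a = (e + a * rs[i]) + -e by ring]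
            exact add_mem (Ideal.mem_sup_right hyk) (Ideal.mem_sup_left (neg_mem he)))
          obtain ⟨c, hc, d, hd, rfl⟩ := Submodule.mem_sup.1 ha
          have h2 : e + c * rs[i] ∈ I i * J ^ k := ihi (Nat.le_of_succ_le hi) ⟨add_mem he (Ideal.mul_mem_right _ _ hc),
            by
              rw [show e + c * rs[i] = (e + (c + d) * rs[i]) - d * rs[i] by ring]
              exact sub_mem hyk (Ideal.mul_mem_right _ _ hd)⟩
          rw [Ideal.sup_mul, show e + (c + d) * rs[i] = (e + c * rs[i]) + rs[i] * d by ring]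
          exact add_mem (Ideal.mem_sup_left h2)
            (Ideal.mem_sup_right (Ideal.mul_mem_mul (Ideal.mem_span_singleton_self _) hd))
      intro i hi b hb
      have hle : I i ⊔ J ^ (k + 1) ≤ I i ⊔ J ^ k := sup_le_sup_left (Ideal.pow_le_pow_right k.le_succ) _
      obtain ⟨a, ha, c, hc, rfl⟩ := Submodule.mem_sup.1 (ih i hi b (hle hb))
      obtain ⟨e, he, j, hj, hej⟩ := Submodule.mem_sup.1 hb
      have hjk : j ∈ J ^ k := Ideal.pow_le_pow_right k.le_succ hj
      have h3 : e - rs[i] * a ∈ I i * J ^ k := hint i hi.le ⟨sub_mem he (Ideal.mul_mem_left _ _ ha), by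
        rw [show e - rs[i] * a = rs[i] * c - j by linear_combination hej]
        exact sub_mem (Ideal.mul_mem_left _ _ hc) hjk⟩
      have h4 : c ∈ I i * J ^ k ⊔ J ^ (k + 1) := hgrad k i hi c hc (by
        rw [show rs[i] * c = (e - rs[i] * a) + j by linear_combination -hej]
        exact add_mem (Ideal.mem_sup_left h3) (Ideal.mem_sup_right hj))
      have hle' : I i * J ^ k ⊔ J ^ (k + 1) ≤ I i ⊔ J ^ (k + 1) :=
        sup_le (Ideal.mul_le_left.trans le_sup_left) le_sup_right
      exact add_mem (Ideal.mem_sup_left ha) (hle' h4)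
  refine le_depth_of_regular_seq rs n (by simp [rs, hlen₀]) hmem ?_
  rw [RingTheory.Sequence.isWeaklyRegular_iff_Fin]
  intro i
  rw [isSMulRegular_iff_right_eq_zero_of_smul]
  intro y hy
  obtain ⟨b, rfl⟩ := Submodule.Quotient.mk_surjective _ y
  rw [← Submodule.Quotient.mk_smul, Submodule.Quotient.mk_eq_zero, smul_eq_mul, smul_eq_mul, Ideal.mul_top] at hy
  rw [Submodule.Quotient.mk_eq_zero, smul_eq_mul, Ideal.mul_top]
  have hall : ∀ k : ℕ, b ∈ I i ⊔ J ^ k := fun k => hquot k i i.2 b (Ideal.mem_sup_left hy)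
  have h0 : Submodule.Quotient.mk b ∈ ⨅ k : ℕ, J ^ k • (⊤ : Submodule B (B ⧸ I i)) :=
    (Submodule.mem_iInf _).2 fun k => by
      rw [mk_mem_smul_top_iff, smul_eq_mul, Ideal.mul_top, sup_comm]
      exact hall k
  rw [Ideal.iInf_pow_smul_eq_bot_of_isLocalRing J hJ, Submodule.mem_bot, Submodule.Quotient.mk_eq_zero] at h0
  exact h0

/-- The graded pieces of the extension of the maximal ideal to a flat algebra are free. -/
theorem free_gr_of_flat (A B : Type u) [CommRing A] [CommRing B] [IsLocalRing A] [IsLocalRing B]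
    [IsNoetherianRing A] [Algebra A B] [Module.Flat A B] (n : ℕ) :
    Module.Free (B ⧸ (IsLocalRing.maximalIdeal A).map (algebraMap A B))
      (↥(((IsLocalRing.maximalIdeal A).map (algebraMap A B)) ^ n) ⧸
        (((IsLocalRing.maximalIdeal A).map (algebraMap A B)) •
          (⊤ : Submodule B ↥(((IsLocalRing.maximalIdeal A).map (algebraMap A B)) ^ n)))) := by
  classical
  let m := IsLocalRing.maximalIdeal A
  letI := Ideal.Quotient.field m
  let I := m.map (algebraMap A B)
  have hI : I ^ n = (m ^ n).map (algebraMap A B) := (Ideal.map_pow _ m n).symm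
  let inc : ↥(m ^ n) →ₗ[A] ↥(I ^ n) :=
    ((Algebra.linearMap A B).comp (Submodule.subtype (m ^ n))).codRestrict ((I ^ n).restrictScalars A)
      fun a => show algebraMap A B a.1 ∈ I ^ n by rw [hI]; exact Ideal.mem_map_of_mem _ a.2
  let β : B ⊗[A] ↥(m ^ n) →ₗ[B] ↥(I ^ n) := inc.liftBaseChange B
  have hval : ∀ x, (β x).1 = TensorProduct.rid A B ((Submodule.subtype (m ^ n)).lTensor B x) := by
    intro x
    induction x using TensorProduct.induction_on with
    | zero => simp
    | tmul b a =>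
      simp only [β, LinearMap.liftBaseChange_tmul, LinearMap.lTensor_tmul, TensorProduct.rid_tmul]
      exact (mul_comm _ _).trans (Algebra.smul_def a.1 b).symm
    | add x y hx hy => simp only [map_add, Submodule.coe_add, hx, hy]
  have hβi : Function.Injective β := fun x y h => by
    refine Module.Flat.lTensor_preserves_injective_linearMap (M := B) _ (Submodule.injective_subtype _) ?_
    refine (TensorProduct.rid A B).injective ?_
    rw [← hval, ← hval, h]
  have hspan : Submodule.span B (Set.range inc) = ⊤ := by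
    refine eq_top_iff.2 fun y _ => ?_
    have hy : y.1 ∈ Submodule.map (I ^ n).subtype (Submodule.span B (Set.range inc)) := by
      rw [Submodule.map_span, ← Set.range_comp]
      refine (?_ : (I ^ n : Ideal B) ≤ Submodule.span B (Set.range ((I ^ n).subtype ∘ inc))) y.2
      refine hI.le.trans ?_
      rw [Ideal.map]
      refine Submodule.span_mono ?_
      rintro _ ⟨a, ha, rfl⟩
      exact ⟨⟨a, ha⟩, rfl⟩
    obtain ⟨z, hz, hzy⟩ := hy
    exact Subtype.ext hzy ▸ hz
  have hβs : Function.Surjective β := by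
    rw [← LinearMap.range_eq_top, eq_top_iff, ← hspan, Submodule.span_le]
    rintro _ ⟨a, rfl⟩
    exact ⟨1 ⊗ₜ a, by simp [β]⟩
  let e := LinearEquiv.ofBijective β ⟨hβi, hβs⟩
  let V := ↥(m ^ n) ⧸ (m • (⊤ : Submodule A ↥(m ^ n)))
  let bas := Module.Free.chooseBasis (A ⧸ m) V
  haveI : Module.Finite (A ⧸ m) V := Module.Finite.of_restrictScalars_finite A (A ⧸ m) V
  let ι := Module.Free.ChooseBasisIndex (A ⧸ m) V
  let G := ↥(I ^ n) ⧸ (I • (⊤ : Submodule B ↥(I ^ n)))
  choose v hv using fun j => Submodule.Quotient.mk_surjective _ (bas j)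
  let w : ι → G := fun j => Submodule.Quotient.mk (inc (v j))
  let red : (A ⧸ m) →ₗ[A] B ⧸ I :=
    Submodule.liftQ m (Algebra.linearMap A (B ⧸ I)) fun a ha => by
      rw [LinearMap.mem_ker, Algebra.linearMap_apply, IsScalarTower.algebraMap_apply A B (B ⧸ I)]
      exact Ideal.Quotient.eq_zero_iff_mem.2 (Ideal.mem_map_of_mem _ ha)
  let c : ι → (↥(m ^ n) →ₗ[A] B ⧸ I) := fun j =>
    red.comp (((bas.coord j).restrictScalars A).comp (Submodule.mkQ _))
  let C : ι → (G →ₗ[B ⧸ I] B ⧸ I) := fun j =>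
    (Submodule.liftQ _ (((c j).liftBaseChange B).comp e.symm.toLinearMap) (by
      refine Submodule.smul_le.2 fun i hi y _ => ?_
      rw [LinearMap.mem_ker, map_smul, Algebra.smul_def, Ideal.Quotient.algebraMap_eq,
        Ideal.Quotient.eq_zero_iff_mem.2 hi, zero_mul])).extendScalarsOfSurjective Ideal.Quotient.mk_surjective
  have hC : ∀ j a, C j (Submodule.Quotient.mk (inc a)) = red (bas.coord j (Submodule.Quotient.mk a)) := by
    intro j a
    show (c j).liftBaseChange B (e.symm (inc a)) = _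
    rw [show e.symm (inc a) = 1 ⊗ₜ a from (LinearEquiv.symm_apply_eq e).2 (by simp [e, β])]
    simp only [c, LinearMap.liftBaseChange_tmul, LinearMap.comp_apply, LinearMap.coe_restrictScalars, one_smul]
    rfl
  have hli : LinearIndependent (B ⧸ I) w := by
    rw [Fintype.linearIndependent_iff]
    intro g hg j
    have := congrArg (C j) hg
    simp only [map_sum, map_smul, map_zero, w, hC, hv, Module.Basis.coord_apply, Module.Basis.repr_self,
      smul_eq_mul] at this
    rw [Finset.sum_eq_single j (fun i _ hi => by simp [hi]) (fun h => absurd (Finset.mem_univ j) h),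
      Finsupp.single_eq_same, show red 1 = 1 from map_one (algebraMap A (B ⧸ I)), mul_one] at this
    exact this
  refine Module.Free.of_basis (Module.Basis.mk hli ?_)
  intro y hy₀
  clear hy₀
  obtain ⟨z, rfl⟩ := Submodule.Quotient.mk_surjective _ y
  have hz : z ∈ Submodule.span B (Set.range inc) := hspan ▸ Submodule.mem_top
  induction hz using Submodule.span_induction with
  | mem z hz =>
    obtain ⟨a, rfl⟩ := hz
    let Q : ↥(m ^ n) →ₗ[A] G := ((Submodule.mkQ _).restrictScalars A).comp inc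
    have hQ : m • (⊤ : Submodule A ↥(m ^ n)) ≤ LinearMap.ker Q := Submodule.smul_le.2 fun r hr x _ => by
      rw [LinearMap.mem_ker, map_smul, ← IsScalarTower.algebraMap_smul B r]
      obtain ⟨z, hz⟩ := Submodule.Quotient.mk_surjective _ (Q x)
      rw [← hz, ← Submodule.Quotient.mk_smul, Submodule.Quotient.mk_eq_zero]
      exact Submodule.smul_mem_smul (Ideal.mem_map_of_mem _ hr) Submodule.mem_top
    have hsum : (Submodule.Quotient.mk (inc a) : G) = (Submodule.liftQ _ Q hQ) (Submodule.Quotient.mk a) := rfl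
    rw [hsum, ← bas.sum_repr (Submodule.Quotient.mk a), map_sum]
    refine Submodule.sum_mem _ fun j _ => ?_
    obtain ⟨r, hr⟩ := Ideal.Quotient.mk_surjective (bas.repr (Submodule.Quotient.mk a) j)
    rw [← hr, show Ideal.Quotient.mk m r • bas j = r • bas j from rfl, map_smul, ← hv j,
      ← IsScalarTower.algebraMap_smul (B ⧸ I) r]
    exact Submodule.smul_mem _ _ (Submodule.subset_span ⟨j, rfl⟩)
  | zero => exact zero_mem _
  | add x y _ _ hx hy => exact add_mem hx hy
  | smul r x _ hx =>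
    show Submodule.Quotient.mk (r • x) ∈ _
    rw [Submodule.Quotient.mk_smul, ← IsScalarTower.algebraMap_smul (B ⧸ I) r]
    exact Submodule.smul_mem _ _ hx

/-- The graded pieces of a principal ideal generated by a regular element are free. -/
theorem free_gr_span_singleton {B : Type u} [CommRing B] (t : B) (ht : IsSMulRegular B t) (n : ℕ) :
    Module.Free (B ⧸ Ideal.span {t})
      (↥((Ideal.span {t}) ^ n) ⧸ ((Ideal.span {t}) • (⊤ : Submodule B ↥((Ideal.span {t}) ^ n)))) := by
  let J : Ideal B := Ideal.span {t}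
  let g : ↥(J ^ n) := ⟨t ^ n, Ideal.pow_mem_pow (Ideal.mem_span_singleton_self t) n⟩
  let G := ↥(J ^ n) ⧸ (J • (⊤ : Submodule B ↥(J ^ n)))
  let f : (B ⧸ J) →ₗ[B ⧸ J] G := LinearMap.toSpanSingleton (B ⧸ J) G (Submodule.Quotient.mk g)
  refine Module.Free.of_equiv (LinearEquiv.ofBijective f ⟨(injective_iff_map_eq_zero f).2 fun c hc => ?_, fun y => ?_⟩)
  · obtain ⟨c, rfl⟩ := Ideal.Quotient.mk_surjective c
    have h1 : (Submodule.Quotient.mk (c • g) : G) = 0 := hc
    rw [Submodule.Quotient.mk_eq_zero, Submodule.mem_smul_top_iff, smul_eq_mul, ← pow_succ',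
      Ideal.span_singleton_pow] at h1
    obtain ⟨d, hd⟩ := Ideal.mem_span_singleton'.1 h1
    refine Ideal.Quotient.eq_zero_iff_mem.2 (Ideal.mem_span_singleton'.2 ⟨d, ?_⟩)
    refine (ht.pow n) ?_
    show t ^ n • (d * t) = t ^ n • c
    rw [smul_eq_mul, smul_eq_mul, show t ^ n * c = c • t ^ n from mul_comm _ _,
      show t ^ n * (d * t) = d * t ^ (n + 1) by ring]
    exact hd
  · obtain ⟨⟨z, hz⟩, rfl⟩ := Submodule.Quotient.mk_surjective _ y
    rw [Ideal.span_singleton_pow] at hz
    obtain ⟨c, rfl⟩ := Ideal.mem_span_singleton'.1 hz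
    exact ⟨Ideal.Quotient.mk J c, rfl⟩

end GrothLib.RamSam
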