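import Groth.Agent.Lib.RamSam.Depth2Module
import Groth.Agent.Lib.RamSam.PunctBridge
import Groth.Agent.Lib.ParaDual.Basic
import Groth.Prelude.Def_ParaF

/-!
# `A[[T]]` is parafactorial for a complete local ring `A` of depth at least two
-/

set_option autoImplicit false
set_option linter.style.haveILetI false

universe u

open IsLocalRing RingTheory.Sequence

namespace GrothLib.RamSam

/-- A regular pair from depth two. -/
theorem exists_regular_pair {A : Type u} [CommRing A] [IsLocalRing A] [IsNoetherianRing A]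
    (h : (2 : ℕ∞) ≤ LocCoh.depth A A) :
    ∃ x y : A, x ∈ maximalIdeal A ∧ y ∈ maximalIdeal A ∧
      (∀ c, x * c = 0 → c = 0) ∧ ∀ c c', x * c' = y * c → x ∣ c := by
  have hne : maximalIdeal A • (⊤ : Submodule A A) ≠ ⊤ := by
    rw [smul_eq_mul, Ideal.mul_top]
    exact (maximalIdeal.isMaximal A).ne_top
  obtain ⟨rs, hlen, hmem, hreg⟩ := (Depth.le_idealDepth_iff_exists (maximalIdeal A) hne 2).1 h
  obtain ⟨x, y, rfl⟩ := List.length_eq_two.1 hlen
  rw [isWeaklyRegular_cons_iff, isWeaklyRegular_cons_iff] at hreg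
  refine ⟨x, y, hmem x (by simp), hmem y (by simp), fun c hc => hreg.1 (hc.trans (mul_zero x).symm), fun c c' he => ?_⟩
  have h0 : (Submodule.Quotient.mk c : QuotSMulTop x A) = 0 := by
    refine hreg.2.1 ?_
    show y • (Submodule.Quotient.mk c : QuotSMulTop x A) = y • 0
    rw [smul_zero, ← Submodule.Quotient.mk_smul, Submodule.Quotient.mk_eq_zero,
      Submodule.mem_smul_pointwise_iff_exists]
    exact ⟨c', Submodule.mem_top, he⟩
  rw [Submodule.Quotient.mk_eq_zero, Submodule.mem_smul_pointwise_iff_exists] at h0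
  obtain ⟨d, -, hd⟩ := h0
  exact ⟨d, hd.symm⟩

/-- `A[[T]]` is parafactorial when `A` is complete of depth at least two. -/
theorem isParafactorial_powerSeries (A : Type u) [CommRing A] [IsNoetherianRing A] [IsLocalRing A]
    [IsAdicComplete (maximalIdeal A) A] (hdepth : (2 : ℕ∞) ≤ LocCoh.depth A A) :
    ParaF.IsParafactorialLocalRing (PowerSeries A) := by
  obtain ⟨x, y, hxm, hym, hx, hxy⟩ := exists_regular_pair hdepth
  refine (ParaPair.isParafactorialLocalRing_iff (PowerSeries A)).2 ⟨?_, ?_⟩
  · have hX : ∀ c : PowerSeries A, PowerSeries.C x * c = 0 → c = 0 := fun c hc => PowerSeries.ext fun i =>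
      hx _ (by rw [← PowerSeries.coeff_C_mul, hc, map_zero])
    have hXY : ∀ c c' : PowerSeries A, PowerSeries.C x * c' = PowerSeries.C y * c → PowerSeries.C x ∣ c := by
      intro c c' he
      have hd : ∀ i, ∃ d, PowerSeries.coeff i c = x * d := fun i =>
        hxy _ (PowerSeries.coeff i c') (by rw [← PowerSeries.coeff_C_mul, he, PowerSeries.coeff_C_mul])
      choose d hd using hd
      exact ⟨PowerSeries.mk d, PowerSeries.ext fun i => by rw [PowerSeries.coeff_C_mul, PowerSeries.coeff_mk, hd]⟩
    refine ParaDual.bijective_punctured_of_depth [PowerSeries.C x, PowerSeries.C y] le_rfl ?_ ?_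
    · intro r hr
      have hm : ∀ z ∈ maximalIdeal A, (PowerSeries.C z : PowerSeries A) ∈ maximalIdeal (PowerSeries A) :=
        fun z hz hu => hz (by simpa using PowerSeries.isUnit_iff_constantCoeff.1 hu)
      rcases List.mem_cons.1 hr with rfl | hr
      · exact hm x hxm
      · rw [List.mem_singleton.1 hr]; exact hm y hym
    · refine IsWeaklyRegular.cons (fun a b hab => sub_eq_zero.1 (hX _ ?_))
        (IsWeaklyRegular.cons (fun a b hab => ?_) (IsWeaklyRegular.nil _ _))
      · rw [mul_sub, sub_eq_zero]; exact hab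
      · obtain ⟨a, rfl⟩ := Submodule.Quotient.mk_surjective _ a
        obtain ⟨b, rfl⟩ := Submodule.Quotient.mk_surjective _ b
        have hab' : (Submodule.Quotient.mk (PowerSeries.C y • a) : QuotSMulTop (PowerSeries.C x) (PowerSeries A)) =
            Submodule.Quotient.mk (PowerSeries.C y • b) := hab
        rw [Submodule.Quotient.eq, Submodule.mem_smul_pointwise_iff_exists] at hab'
        obtain ⟨c', -, hc'⟩ := hab'
        obtain ⟨d, hd⟩ := hXY (a - b) c' (by rw [← smul_eq_mul (PowerSeries.C x) c', hc', smul_eq_mul, smul_eq_mul, mul_sub])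
        rw [Submodule.Quotient.eq, Submodule.mem_smul_pointwise_iff_exists]
        exact ⟨d, Submodule.mem_top, hd.symm⟩
  · exact picTrivial_of (PowerSeries A) fun M _ _ _ hM => exists_gen_functional hxm hym hx hxy hM

end GrothLib.RamSam
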